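import Cfsg.Agent.Linear.Mult.Killed
import Cfsg.Agent.H50.InvBilinear

/-!
Central extensions with kernel of prime order: killed subgroups up to index prime to the prime, and
multiplicative sections over subgroups, equivariant under a group of operators.
-/

set_option autoImplicit false
set_option linter.unusedSectionVars false

namespace Cfsg.Agent.H40.Ree

open Subgroup Cfsg.Agent.Linear.Mult
open scoped commutatorElement

universe u v

variable {l : ℕ} {X : Type u} {G : Type v} [Group X] [Group G] (E : LExt l X G)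

/-- Transfer: killed is inherited by overgroups of index prime to `l`. -/
theorem killed_of_relIndex [Finite X] {N M : Subgroup G} (hle : N ≤ M) (hN : E.Killed N)
    (hidx : (N.relIndex M).Coprime l) : E.Killed M := by
  intro z hz h1
  have hzM : z ∈ E.pre M := by show E.proj z ∈ M; rw [h1]; exact one_mem _
  have hzN : z ∈ E.pre N := by show E.proj z ∈ N; rw [h1]; exact one_mem _
  let Q : Subgroup (E.pre M) := (E.pre N).subgroupOf (E.pre M)
  let P := E.pre N
  let f : Q →* P := ((E.pre M).subtype.comp Q.subtype).codRestrict P fun x => x.2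
  let ϕ : Q →* Abelianization P := Abelianization.of.comp f
  have key : ∀ (k : ℕ) (g₀ : E.pre M), g₀⁻¹ * (⟨z, hzM⟩ : E.pre M) ^ k * g₀ ∈ Q →
      g₀⁻¹ * (⟨z, hzM⟩ : E.pre M) ^ k * g₀ = (⟨z, hzM⟩ : E.pre M) ^ k := by
    intro k g₀ _
    refine Subtype.ext ?_
    show (g₀ : X)⁻¹ * z ^ k * g₀ = z ^ k
    rw [mul_assoc, ← ((show Commute (g₀ : X) z from E.ker_central h1 g₀).pow_right k).eq,
      inv_mul_cancel_left]
  have hc : (⟨z, hzM⟩ : E.pre M) ∈ commutator (E.pre M) := by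
    rw [← Abelianization.ker_of, MonoidHom.mem_ker]
    exact (mem_commutator_iff_of ⟨z, hzM⟩).1 hz
  have ht : MonoidHom.transfer ϕ (⟨z, hzM⟩ : E.pre M) = 1 :=
    MonoidHom.mem_ker.1 (Abelianization.commutator_subset_ker _ hc)
  rw [MonoidHom.transfer_eq_pow ϕ _ key] at ht
  have hidx' : Q.index = N.relIndex M := by
    show (E.pre N).relIndex (E.pre M) = _
    rw [Subgroup.relIndex_comap, E.map_pre]
  have hw : z ^ Q.index ∈ ⁅E.pre N, E.pre N⁆ :=
    (mem_commutator_iff_of (⟨z ^ Q.index, pow_mem hzN _⟩ : P)).2 ht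
  have h2 := hN _ hw (by rw [map_pow, h1, one_pow])
  rw [hidx'] at h2
  exact E.eq_one_of_pow h1 hidx h2

/-- A multiplicative section over `Y`, equivariant under the lifts of the elements of `T`. -/
structure Sec (T : Set G) (Y : Subgroup G) where
  s : G → X
  proj_s : ∀ y ∈ Y, E.proj (s y) = y
  s_mul : ∀ a ∈ Y, ∀ b ∈ Y, s (a * b) = s a * s b
  stable : ∀ t ∈ T, ∀ y ∈ Y, t * y * t⁻¹ ∈ Y
  s_conj : ∀ t ∈ T, ∀ y ∈ Y, ∀ a : X, E.proj a = t → a * s y * a⁻¹ = s (t * y * t⁻¹)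

variable {E} {T : Set G}

namespace Sec

variable {Y : Subgroup G} (S : Sec E T Y)

theorem s_one : S.s 1 = 1 := by
  have h := S.s_mul 1 (one_mem _) 1 (one_mem _)
  rw [mul_one] at h
  exact left_eq_mul.1 h

theorem s_inv {y : G} (hy : y ∈ Y) : S.s y⁻¹ = (S.s y)⁻¹ := by
  refine eq_inv_of_mul_eq_one_left ?_
  rw [← S.s_mul _ (inv_mem hy) _ hy, inv_mul_cancel, S.s_one]

include S in
theorem killed : E.Killed Y := by
  let I : Subgroup X :=
    { carrier := S.s '' (Y : Set G)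
      one_mem' := ⟨1, one_mem _, S.s_one⟩
      mul_mem' := by
        rintro _ _ ⟨a, ha, rfl⟩ ⟨b, hb, rfl⟩
        exact ⟨a * b, mul_mem ha hb, S.s_mul a ha b hb⟩
      inv_mem' := by
        rintro _ ⟨a, ha, rfl⟩
        exact ⟨a⁻¹, inv_mem ha, S.s_inv ha⟩ }
  have key : ∀ a ∈ E.pre Y, ∃ i ∈ I, ∃ c, E.proj c = 1 ∧ a = i * c := fun a ha =>
    ⟨S.s (E.proj a), ⟨_, ha, rfl⟩, (S.s (E.proj a))⁻¹ * a,
      by rw [map_mul, map_inv, S.proj_s _ ha, inv_mul_cancel], (mul_inv_cancel_left _ _).symm⟩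
  have hle : ⁅E.pre Y, E.pre Y⁆ ≤ I := by
    rw [commutator_le]
    intro a ha b hb
    obtain ⟨i, hi, c, hc, rfl⟩ := key a ha
    obtain ⟨j, hj, d, hd, rfl⟩ := key b hb
    rw [E.cm_eq (a := i * c) (b := j * d) rfl rfl, ← E.cm_eq (a := i) (b := j)
      (by rw [map_mul, hc, mul_one]) (by rw [map_mul, hd, mul_one]), commutatorElement_def]
    exact mul_mem (mul_mem (mul_mem hi hj) (inv_mem hi)) (inv_mem hj)
  intro z hz h1
  obtain ⟨y, hy, rfl⟩ := hle hz
  rw [S.proj_s y hy] at h1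
  rw [h1, S.s_one]

/-- A section restricts. -/
def restrict {Y' : Subgroup G} (h : Y' ≤ Y) (hst : ∀ t ∈ T, ∀ y ∈ Y', t * y * t⁻¹ ∈ Y') :
    Sec E T Y' where
  s := S.s
  proj_s y hy := S.proj_s y (h hy)
  s_mul a ha b hb := S.s_mul a (h ha) b (h hb)
  stable := hst
  s_conj t ht y hy := S.s_conj t ht y (h hy)

end Sec

open Classical in
/-- A killed subgroup moved onto itself by one of its normalising elements has a section. -/
theorem nonempty_sec {Y M : Subgroup G} (hY : Y ≤ ⁅M, M⁆) (hM : E.Killed M)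
    (hst : ∀ t ∈ T, ∀ y ∈ Y, t * y * t⁻¹ ∈ Y) (hTM : ∀ t ∈ T, ∀ x ∈ M, t * x * t⁻¹ ∈ M) :
    Nonempty (Sec E T Y) := by
  have hex : ∀ y ∈ Y, ∃ a ∈ ⁅E.pre M, E.pre M⁆, E.proj a = y := by
    intro y hy
    have h := hY hy
    rw [← E.map_pre M, ← Subgroup.map_commutator] at h
    exact h
  let s : G → X := fun y => if h : y ∈ Y then (hex y h).choose else 1
  have hs : ∀ y ∈ Y, s y ∈ ⁅E.pre M, E.pre M⁆ ∧ E.proj (s y) = y := fun y hy => by
    simp only [s, dif_pos hy]; exact (hex y hy).choose_spec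
  refine ⟨⟨s, fun y hy => (hs y hy).2, fun a ha b hb => ?_, hst, fun t ht y hy a ha => ?_⟩⟩
  · refine hM.eq_of_proj (hs _ (mul_mem ha hb)).1 (mul_mem (hs a ha).1 (hs b hb).1) ?_
    rw [map_mul, (hs a ha).2, (hs b hb).2, (hs _ (mul_mem ha hb)).2]
  · refine hM.eq_of_proj ?_ (hs _ (hst t ht y hy)).1 ?_
    · have : (⁅E.pre M, E.pre M⁆).map (MulAut.conj a).toMonoidHom ≤ ⁅E.pre M, E.pre M⁆ := by
        rw [map_commutator]
        refine commutator_mono ?_ ?_ <;>
        · rintro _ ⟨x, hx, rfl⟩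
          show E.proj (a * x * a⁻¹) ∈ M
          rw [map_mul, map_mul, map_inv, ha]
          exact hTM t ht _ hx
      exact this (mem_map_of_mem _ (hs y hy).1)
    · rw [map_mul, map_mul, map_inv, (hs y hy).2, (hs _ (hst t ht y hy)).2, ha]

/-- A killed subgroup with a fixed point free operator of order prime to `l` has a section. -/
theorem nonempty_sec_of_fpf [Finite X] {Y : Subgroup G} (hK : E.Killed Y) {g : G}
    (hg : (orderOf g).Coprime l) (hgY : ∀ y ∈ Y, g * y * g⁻¹ ∈ Y)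
    (hmov : ∀ x ∈ Y, ∃ y ∈ Y, ⁅g, y⁆ = x)
    (hst : ∀ t ∈ T, ∀ y ∈ Y, t * y * t⁻¹ ∈ Y) (hgT : ∀ t ∈ T, Commute t g) :
    Nonempty (Sec E T Y) := by
  haveI : Finite G := Finite.of_surjective _ E.surj
  set M := Y ⊔ zpowers g with hM
  have hnorm : zpowers g ≤ normalizer (Y : Set G) := by
    rw [zpowers_le]
    refine (mem_normalizer_iff (H := Y) (g := g)).2 fun y => ⟨hgY y, fun h => ?_⟩
    have : ∀ k : ℕ, ∀ x ∈ Y, g ^ k * x * (g ^ k)⁻¹ ∈ Y := by
      intro k
      induction k with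
      | zero => intro x hx; simpa using hx
      | succ k ih =>
        intro x hx
        rw [pow_succ', show g * g ^ k * x * (g * g ^ k)⁻¹ = g * (g ^ k * x * (g ^ k)⁻¹) * g⁻¹ by group]
        exact hgY _ (ih x hx)
    have h2 := this (orderOf g - 1) _ h
    have e : g ^ (orderOf g - 1) = g⁻¹ := by
      refine eq_inv_of_mul_eq_one_left ?_
      rw [← pow_succ, Nat.sub_add_cancel (orderOf_pos g), pow_orderOf_eq_one]
    rw [e] at h2
    simpa [mul_assoc] using h2
  have hKM : E.Killed M := by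
    refine killed_of_relIndex E le_sup_left hK (Nat.Coprime.coprime_dvd_left ?_ hg)
    rw [← Nat.card_zpowers]
    haveI : (Y.subgroupOf M).Normal := by
      rw [normal_subgroupOf_iff_le_normalizer le_sup_left]
      exact sup_le le_normalizer hnorm
    have e : Y.subgroupOf M ⊔ (zpowers g).subgroupOf M = ⊤ := by
      rw [← subgroupOf_sup le_sup_left le_sup_right, subgroupOf_self]
    have h := relIndex_sup_left (K := Y.subgroupOf M) (H := (zpowers g).subgroupOf M)
    rw [e, relIndex_top_right, relIndex_subgroupOf le_sup_right] at h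
    exact (show Y.relIndex M = Y.relIndex (zpowers g) from h) ▸ relIndex_dvd_card _ _
  refine nonempty_sec (M := M) ?_ hKM hst fun t ht x hx => ?_
  · intro x hx
    obtain ⟨y, hy, rfl⟩ := hmov x hx
    exact commutator_mem_commutator (mem_sup_right (mem_zpowers g)) (mem_sup_left hy)
  · refine (show M ≤ M.comap (MulAut.conj t).toMonoidHom from sup_le ?_ ?_) hx
    · exact fun y hy => mem_sup_left (hst t ht y hy)
    · rw [zpowers_le]
      show t * g * t⁻¹ ∈ M
      rw [(hgT t ht).eq, mul_inv_cancel_right]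
      exact mem_sup_right (mem_zpowers g)

/-! ### Gluing two sections -/

section Glue

variable {A N : Subgroup G} (SA : Sec E T A) (SN : Sec E T N)
  (hAN : ∀ a ∈ A, ∀ n ∈ N, a * n * a⁻¹ ∈ N)

/-- The defect of equivariance of the section over `N` under that over `A`. -/
def defect (a n : G) : X := SA.s a * SN.s n * (SA.s a)⁻¹ * (SN.s (a * n * a⁻¹))⁻¹

include hAN in
theorem proj_defect {a n : G} (ha : a ∈ A) (hn : n ∈ N) : E.proj (defect SA SN a n) = 1 := by
  rw [defect, map_mul, map_mul, map_mul, map_inv, map_inv, SA.proj_s a ha, SN.proj_s n hn,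
    SN.proj_s _ (hAN a ha n hn), mul_inv_cancel]

theorem defect_spec (a n : G) :
    SA.s a * SN.s n * (SA.s a)⁻¹ = defect SA SN a n * SN.s (a * n * a⁻¹) := by
  rw [defect, inv_mul_cancel_right]

include hAN in
theorem defect_mul_right {a n n' : G} (ha : a ∈ A) (hn : n ∈ N) (hn' : n' ∈ N) :
    defect SA SN a (n * n') = defect SA SN a n * defect SA SN a n' := by
  have hc := E.ker_central (proj_defect SA SN hAN ha hn')
  refine mul_right_cancel (b := SN.s (a * (n * n') * a⁻¹)) ?_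
  rw [← defect_spec, SN.s_mul n hn n' hn', show a * (n * n') * a⁻¹ = a * n * a⁻¹ * (a * n' * a⁻¹) by
    group, SN.s_mul _ (hAN a ha n hn) _ (hAN a ha n' hn'),
    show SA.s a * (SN.s n * SN.s n') * (SA.s a)⁻¹ =
      SA.s a * SN.s n * (SA.s a)⁻¹ * (SA.s a * SN.s n' * (SA.s a)⁻¹) by group,
    defect_spec, defect_spec]
  calc defect SA SN a n * SN.s (a * n * a⁻¹) * (defect SA SN a n' * SN.s (a * n' * a⁻¹))
      = defect SA SN a n * (SN.s (a * n * a⁻¹) * defect SA SN a n') * SN.s (a * n' * a⁻¹) := by group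
    _ = _ := by rw [hc]; group

include hAN in
theorem defect_one_right {a : G} (ha : a ∈ A) : defect SA SN a 1 = 1 := by
  have h := defect_mul_right SA SN hAN ha (one_mem N) (one_mem N)
  rw [mul_one] at h
  exact left_eq_mul.1 h

include hAN in
theorem defect_mul_left {a a' n : G} (ha : a ∈ A) (ha' : a' ∈ A) (hn : n ∈ N) :
    defect SA SN (a * a') n = defect SA SN a' n * defect SA SN a (a' * n * a'⁻¹) := by
  have hc := E.ker_central (proj_defect SA SN hAN ha' hn)
  refine mul_right_cancel (b := SN.s (a * a' * n * (a * a')⁻¹)) ?_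
  rw [← defect_spec, SA.s_mul a ha a' ha',
    show SA.s a * SA.s a' * SN.s n * (SA.s a * SA.s a')⁻¹ =
      SA.s a * (SA.s a' * SN.s n * (SA.s a')⁻¹) * (SA.s a)⁻¹ by group, defect_spec,
    show SA.s a * (defect SA SN a' n * SN.s (a' * n * a'⁻¹)) * (SA.s a)⁻¹ =
      SA.s a * defect SA SN a' n * SN.s (a' * n * a'⁻¹) * (SA.s a)⁻¹ by group, hc,
    show defect SA SN a' n * SA.s a * SN.s (a' * n * a'⁻¹) * (SA.s a)⁻¹ =
      defect SA SN a' n * (SA.s a * SN.s (a' * n * a'⁻¹) * (SA.s a)⁻¹) by group, defect_spec,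
    show a * (a' * n * a'⁻¹) * a⁻¹ = a * a' * n * (a * a')⁻¹ by group]
  group

include hAN in
theorem defect_one_left {n : G} (hn : n ∈ N) : defect SA SN 1 n = 1 := by
  have h := defect_mul_left SA SN hAN (one_mem A) (one_mem A) hn
  simp only [mul_one, one_mul, inv_one] at h
  exact left_eq_mul.1 h

include hAN in
theorem defect_conj {a n t : G} (ha : a ∈ A) (hn : n ∈ N) (ht : t ∈ T) :
    defect SA SN (t * a * t⁻¹) (t * n * t⁻¹) = defect SA SN a n := by
  set L := E.lift t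
  have hL : E.proj L = t := E.proj_lift t
  have h1 : L * defect SA SN a n * L⁻¹ = defect SA SN a n := by
    rw [E.ker_central (proj_defect SA SN hAN ha hn) L, mul_inv_cancel_right]
  rw [← h1, defect, defect, ← SA.s_conj t ht a ha L hL, ← SN.s_conj t ht n hn L hL,
    show t * a * t⁻¹ * (t * n * t⁻¹) * (t * a * t⁻¹)⁻¹ = t * (a * n * a⁻¹) * t⁻¹ by group,
    ← SN.s_conj t ht _ (hAN a ha n hn) L hL]
  group

/-- An operator fixing `A` pointwise and moving `Y` onto itself. -/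
theorem defect_of_fix_left (hAN : ∀ a ∈ A, ∀ n ∈ N, a * n * a⁻¹ ∈ N) {t : G} (ht : t ∈ T)
    (hfix : ∀ a ∈ A, t * a * t⁻¹ = a) {a x : G} (ha : a ∈ A) (hx : x ∈ N)
    {y : G} (hy : y ∈ N) (e : ⁅t, y⁆ = x) : defect SA SN a x = 1 := by
  have h1 := defect_conj SA SN hAN ha hy ht
  rw [hfix a ha] at h1
  have h2 := defect_mul_right SA SN hAN ha hx hy
  have hty : x * y = t * y * t⁻¹ := by rw [← e, commutatorElement_def, inv_mul_cancel_right]
  rw [hty, h1] at h2
  exact right_eq_mul.1 h2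

/-- An operator fixing `y` and moving `A` onto itself. -/
theorem defect_of_fix_right (hAN : ∀ a ∈ A, ∀ n ∈ N, a * n * a⁻¹ ∈ N) {t : G} (ht : t ∈ T)
    (hmov : ∀ a ∈ A, ∃ a' ∈ A, ⁅t, a'⁆ = a) {y : G} (hy : y ∈ N) (hfix : t * y * t⁻¹ = y)
    (hgood : ∀ a' ∈ A, ∀ c ∈ A, defect SA SN c (⁅y⁻¹, a'⁆) = 1) {a : G} (ha : a ∈ A) :
    defect SA SN a y = 1 := by
  obtain ⟨a', ha', rfl⟩ := hmov a ha
  have hta : t * a' * t⁻¹ ∈ A := SA.stable t ht a' ha'
  have hai : a'⁻¹ ∈ A := inv_mem ha'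
  set r := ⁅y⁻¹, a'⁻¹⁆ with hrdef
  have hyr : y * r = a'⁻¹ * y * a' := by rw [hrdef, commutatorElement_def]; group
  have hn1 : a'⁻¹ * y * a'⁻¹⁻¹ ∈ N := hAN _ hai y hy
  have hrN : r ∈ N := by
    rw [show r = y⁻¹ * (a'⁻¹ * y * a'⁻¹⁻¹) by rw [inv_inv, ← hyr, inv_mul_cancel_left]]
    exact mul_mem (inv_mem hy) hn1
  have hgr : ∀ c ∈ A, defect SA SN c r = 1 := fun c hc => hgood a'⁻¹ hai c hc
  -- the defect at `a'⁻¹`
  have e0 := defect_mul_left SA SN hAN ha' hai hy
  rw [mul_inv_cancel, defect_one_left SA SN hAN hy, inv_inv, ← hyr,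
    defect_mul_right SA SN hAN ha' hy hrN, hgr a' ha', mul_one] at e0
  -- the defect at the conjugate
  have e1 : defect SA SN (t * a' * t⁻¹) y = defect SA SN a' y := by
    have := defect_conj SA SN hAN ha' hy ht
    rwa [hfix] at this
  have e2 : defect SA SN ⁅t, a'⁆ y =
      defect SA SN a'⁻¹ y * defect SA SN (t * a' * t⁻¹) (y * r) := by
    rw [show ⁅t, a'⁆ = t * a' * t⁻¹ * a'⁻¹ from commutatorElement_def _ _,
      defect_mul_left SA SN hAN hta hai hy, inv_inv, ← hyr]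
  rw [e2, defect_mul_right SA SN hAN hta hy hrN, hgr _ hta, mul_one, e1]
  exact e0.symm

open Classical in
include hAN in
/-- Without defect, the two sections glue. -/
theorem nonempty_glue (hdisj : A ⊓ N = ⊥)
    (h : ∀ a ∈ A, ∀ n ∈ N, defect SA SN a n = 1) {M : Subgroup G}
    (hM : ∀ g, g ∈ M ↔ ∃ a ∈ A, ∃ n ∈ N, a * n = g) : Nonempty (Sec E T M) := by
  let s : G → X := fun g => if hg : g ∈ M then
    SA.s ((hM g).1 hg).choose * SN.s ((hM g).1 hg).choose_spec.2.choose else 1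
  have hu : ∀ a ∈ A, ∀ n ∈ N, ∀ a' ∈ A, ∀ n' ∈ N, a * n = a' * n' → a = a' ∧ n = n' := by
    intro a ha n hn a' ha' n' hn' e
    have h1 : a'⁻¹ * a = n' * n⁻¹ := by
      rw [eq_mul_inv_iff_mul_eq, mul_assoc, e, inv_mul_cancel_left]
    have h2 : a'⁻¹ * a ∈ A ⊓ N :=
      mem_inf.2 ⟨A.mul_mem (A.inv_mem ha') ha, h1 ▸ N.mul_mem hn' (N.inv_mem hn)⟩
    rw [hdisj, mem_bot] at h2
    obtain rfl := inv_mul_eq_one.1 h2
    exact ⟨rfl, mul_left_cancel e⟩
  have hs : ∀ a ∈ A, ∀ n ∈ N, s (a * n) = SA.s a * SN.s n := by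
    intro a ha n hn
    have hg : a * n ∈ M := (hM _).2 ⟨a, ha, n, hn, rfl⟩
    simp only [s, dif_pos hg]
    obtain ⟨ha', hn'⟩ := ((hM _).1 hg).choose_spec
    obtain ⟨hn'1, hn'2⟩ := hn'.choose_spec
    obtain ⟨e1, e2⟩ := hu _ ha' _ hn'1 _ ha _ hn hn'2
    exact congrArg₂ (· * ·) (congrArg SA.s e1) (congrArg SN.s e2)
  have hswap : ∀ a ∈ A, ∀ n ∈ N, SN.s n * SA.s a = SA.s a * SN.s (a⁻¹ * n * a) := by
    intro a ha n hn
    have hm : a⁻¹ * n * a ∈ N := by
      have := hAN _ (inv_mem ha) n hn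
      rwa [inv_inv] at this
    have h1 := h a ha _ hm
    rw [defect, mul_inv_eq_one, show a * (a⁻¹ * n * a) * a⁻¹ = n by group] at h1
    rw [← h1, inv_mul_cancel_right]
  refine ⟨⟨s, ?_, ?_, ?_, ?_⟩⟩
  · intro g hg
    obtain ⟨a, ha, n, hn, rfl⟩ := (hM g).1 hg
    rw [hs a ha n hn, map_mul, SA.proj_s a ha, SN.proj_s n hn]
  · intro g hg g' hg'
    obtain ⟨a, ha, n, hn, rfl⟩ := (hM g).1 hg
    obtain ⟨b, hb, n', hn', rfl⟩ := (hM g').1 hg'
    have hm : b⁻¹ * n * b ∈ N := by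
      have := hAN _ (inv_mem hb) n hn
      rwa [inv_inv] at this
    rw [show a * n * (b * n') = a * b * (b⁻¹ * n * b * n') by group,
      hs _ (mul_mem ha hb) _ (mul_mem hm hn'), hs a ha n hn, hs b hb n' hn', SA.s_mul a ha b hb,
      SN.s_mul _ hm n' hn',
      show SA.s a * SN.s n * (SA.s b * SN.s n') = SA.s a * (SN.s n * SA.s b) * SN.s n' by group,
      hswap b hb n hn]
    group
  · intro t ht g hg
    obtain ⟨a, ha, n, hn, rfl⟩ := (hM g).1 hg
    exact (hM _).2 ⟨_, SA.stable t ht a ha, _, SN.stable t ht n hn, by group⟩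
  · intro t ht g hg c hc
    obtain ⟨a, ha, n, hn, rfl⟩ := (hM g).1 hg
    rw [hs a ha n hn, show t * (a * n) * t⁻¹ = t * a * t⁻¹ * (t * n * t⁻¹) by group,
      hs _ (SA.stable t ht a ha) _ (SN.stable t ht n hn), ← SA.s_conj t ht a ha c hc,
      ← SN.s_conj t ht n hn c hc]
    group

end Glue

/-! ### Bimultiplicative central functions -/

/-- A commutator form invariant under an operator fixing one side and moving the other vanishes. -/
theorem cm_eq_one_of_sep {A B : Subgroup G} (hc : ∀ a ∈ A, ∀ b ∈ B, Commute a b) {t : G}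
    (hfix : ∀ a ∈ A, t * a * t⁻¹ = a) (hst : ∀ b ∈ B, t * b * t⁻¹ ∈ B)
    (hmov : ∀ b ∈ B, ∃ b' ∈ B, ⁅t, b'⁆ = b) {a b : G} (ha : a ∈ A) (hb : b ∈ B) :
    E.cm a b = 1 := by
  obtain ⟨b', hb', rfl⟩ := hmov b hb
  have hbt : ⁅t, b'⁆ ∈ B := by
    rw [commutatorElement_def]; exact mul_mem (hst b' hb') (inv_mem hb')
  have h1 : E.cm a (⁅t, b'⁆ * b') = E.cm a ⁅t, b'⁆ * E.cm a b' :=
    E.cm_mul_right_of_commute (hc a ha b' hb')
  rw [commutatorElement_def, inv_mul_cancel_right] at h1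
  have h2 := E.conj_cm (E.proj_lift t) a b'
  rw [hfix a ha, CExtData.conj_central (E.cm_mem_center (hc a ha b' hb'))] at h2
  rw [← h2] at h1
  exact right_eq_mul.1 h1

/-- An invariant biadditive form on a field vanishes. -/
theorem bilin_eq_zero {F : Type*} [Field F] [Fintype F] {W : Type*} [AddCommGroup W] {m : ℕ}
    (hm : 1 ≤ m) (hF : Fintype.card F = 2 ^ (2 * m + 1)) (c : F →+ F →+ W)
    (hinv : ∀ t : Fˣ, ∀ x y, c ((t : F) * x) ((t : F) * y) = c x y) : c = 0 := by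
  classical
  haveI : Fact (Nat.Prime 2) := ⟨Nat.prime_two⟩
  haveI : CharP F 2 := charP_of_card_eq_prime_pow hF
  by_contra hc
  let S : Submonoid F := Submonoid.map (Units.coeHom F) ⊤
  have hS0 : (0 : F) ∉ S := by rintro ⟨t, -, ht⟩; simp at ht
  have hSmem : ∀ t : Fˣ, (t : F) ∈ S := fun t => ⟨t, trivial, rfl⟩
  have hStop : AddSubgroup.closure (S : Set F) = ⊤ := by
    rw [eq_top_iff]
    intro x _
    rcases eq_or_ne x 0 with rfl | hx
    · exact zero_mem _
    · exact AddSubgroup.subset_closure (hSmem (Units.mk0 x hx))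
  obtain ⟨f, hf⟩ := H50.exists_ringHom_of_invariant c S hS0 hStop id (by simpa using hStop)
    (fun x hx h0 => hS0 ((show x = 0 from h0) ▸ hx))
    (by rintro _ ⟨t, -, rfl⟩ x y; exact hinv t x y) hc
  obtain ⟨i, hi, hfi⟩ := H50.exists_pow_of_ringHom 2 (2 * m + 1) hF f
  obtain ⟨g0, hg0⟩ := IsCyclic.exists_ofOrder_eq_natCard (α := Fˣ)
  rw [Nat.card_units, Nat.card_eq_fintype_card, hF] at hg0
  have h1 := hf _ (hSmem g0)
  rw [id_eq, hfi, ← pow_succ] at h1
  have h2 := orderOf_dvd_of_pow_eq_one (Units.ext (by simpa using h1) : g0 ^ (2 ^ i + 1) = 1)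
  rw [hg0] at h2
  have h3 := Nat.le_of_dvd (by positivity) h2
  have h4 : 2 ^ i ≤ 2 ^ (2 * m) := Nat.pow_le_pow_right two_pos (by omega)
  have h5 : 2 ^ 2 ≤ 2 ^ (2 * m) := Nat.pow_le_pow_right two_pos (by omega)
  rw [pow_succ] at h3
  omega

/-- A group parametrised additively by a field, with multiplicative symmetry, is killed. -/
theorem killed_of_field [Finite X] {F : Type*} [Field F] [Fintype F] {m : ℕ}
    (hm : 1 ≤ m) (hF : Fintype.card F = 2 ^ (2 * m + 1)) {Y : Subgroup G} (x : F → G)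
    (hadd : ∀ s t, x (s + t) = x s * x t) (hY : ∀ y ∈ Y, ∃ t, y = x t)
    (hsym : ∀ r : Fˣ, ∃ g : G, ∀ t, g * x t * g⁻¹ = x ((r : F) * t)) : E.Killed Y := by
  have hcomm : ∀ s t, Commute (x s) (x t) := fun s t => by
    show _ = _; rw [← hadd, ← hadd, add_comm]
  have hK : ∀ z : E.proj.ker, ∀ w : E.proj.ker, z * w = w * z := fun z w =>
    Subtype.ext (E.ker_central w.2 (z : X))
  letI : CommGroup E.proj.ker := { (inferInstance : Group E.proj.ker) with mul_comm := hK }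
  have hk : ∀ s t, E.cm (x s) (x t) ∈ E.proj.ker := fun s t => by
    rw [MonoidHom.mem_ker, E.proj_cm, commutatorElement_eq_one_iff_commute.2 (hcomm s t)]
  let c : F →+ F →+ Additive E.proj.ker :=
    AddMonoidHom.mk' (fun s => AddMonoidHom.mk' (fun t => Additive.ofMul ⟨_, hk s t⟩)
        (fun t t' => congrArg Additive.ofMul (Subtype.ext (by
          show E.cm (x s) (x (t + t')) = E.cm (x s) (x t) * E.cm (x s) (x t')
          rw [hadd, E.cm_mul_right_of_commute (hcomm _ _)]))))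
      (fun s s' => AddMonoidHom.ext fun t => congrArg Additive.ofMul (Subtype.ext (by
        show E.cm (x (s + s')) (x t) = E.cm (x s) (x t) * E.cm (x s') (x t)
        rw [add_comm, hadd, E.cm_mul_left_of_commute (hcomm _ _)])))
  have hc : c = 0 := bilin_eq_zero hm hF c fun r s t => by
    obtain ⟨g, hg⟩ := hsym r
    refine congrArg Additive.ofMul (Subtype.ext ?_)
    show E.cm (x ((r : F) * s)) (x ((r : F) * t)) = E.cm (x s) (x t)
    rw [← hg, ← hg, ← E.conj_cm (E.proj_lift g), CExtData.conj_central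
      (E.cm_mem_center (hcomm _ _))]
  intro z hz _
  have hbot : ⁅E.pre Y, E.pre Y⁆ = ⊥ := by
    rw [eq_bot_iff, commutator_le]
    intro a ha b hb
    obtain ⟨s, hs⟩ := hY _ ha
    obtain ⟨t, ht⟩ := hY _ hb
    rw [mem_bot, E.cm_eq (a := a) (b := b) hs ht]
    have := congrArg (fun c' : F →+ F →+ Additive E.proj.ker => ((c' s t).toMul : E.proj.ker)) hc
    exact congrArg Subtype.val this
  rw [hbot] at hz
  exact mem_bot.1 hz

end Cfsg.Agent.H40.Ree
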