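import Cfsg.Agent.H74.RootExt.SplitBase

/-!
The Levi subgroup of a minimal parabolic subgroup of a split Tits system with central longest element.
-/

set_option autoImplicit false
set_option linter.unusedSectionVars false

namespace Cfsg.Agent.H40.Ree

open Cfsg.Agent.H28 Cfsg.Agent.H54.BNC Cfsg.Agent.H13.Split Cfsg.Agent.H74.RootExt
open Cfsg.Agent.H37 (Tits.Ambient)

variable {G W : Type*} [Group G] [Group W] (A : Tits.Ambient G W) {s w₀ : W}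

/-- The minimal parabolic subgroup. -/
def para (hs : s ∈ A.S) : Subgroup G where
  carrier := {g | g ∈ A.B ∨ g ∈ cell A s}
  one_mem' := Or.inl (one_mem _)
  mul_mem' := by
    rintro z y (hz | hz) (hy | hy)
    · exact Or.inl (mul_mem hz hy)
    · exact Or.inr (cell_left A hz hy)
    · exact Or.inr (cell_right A hz hy)
    · obtain ⟨u, hu, h, hh, v, hv, rfl⟩ := cell_nf A hz
      obtain ⟨u', hu', h', hh', v', hv', rfl⟩ := cell_nf A hy
      have hd : v * u' * h' ∈ A.B :=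
        mul_mem (mul_mem (A.U_le_B (A.Uw_le s hv)) (A.U_le_B hu')) (A.H_le_B hh')
      have hb : u * h ∈ A.B := ⟨u, hu, h, hh, rfl⟩
      rw [show u * h * A.n s * v * (u' * h' * A.n s * v') =
        u * h * (A.n s * (v * u' * h') * A.n s) * v' by group]
      rcases axiom_left (P := A.pair) (nS_mem A hs) (n_mem A s) hd with hc | hc
      · rw [dc_of_mem_B (A.pair.sq_mem _ (nS_mem A hs)), mem_dc_one] at hc
        exact Or.inl (mul_mem (mul_mem hb hc) (A.U_le_B (A.Uw_le s hv')))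
      · exact Or.inr (cell_right A (cell_left A hb hc) (A.U_le_B (A.Uw_le s hv')))
  inv_mem' := by
    rintro g (hg | hg)
    · exact Or.inl (inv_mem hg)
    · have := cell_inv A hg
      rw [A.S_inv hs] at this
      exact Or.inr this

theorem mem_para {hs : s ∈ A.S} {g : G} : g ∈ para A hs ↔ g ∈ A.B ∨ g ∈ cell A s := Iff.rfl

/-- The Levi subgroup: the intersection with a conjugate of the parabolic subgroup. -/
def levi (hs : s ∈ A.S) (w₀ : W) : Subgroup G :=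
  para A hs ⊓ (para A hs).comap (MulAut.conj (A.n (w₀ * s))).toMonoidHom

theorem mem_levi {hs : s ∈ A.S} {g : G} : g ∈ levi A hs w₀ ↔
    g ∈ para A hs ∧ A.n (w₀ * s) * g * (A.n (w₀ * s))⁻¹ ∈ para A hs := Iff.rfl

variable {A} {p : ℕ} (hA : SBase A p w₀) (hcen : s * w₀ = w₀ * s) (hs : s ∈ A.S) [Finite G]
include hA hcen hs

theorem s_comm : s * (w₀ * s) = w₀ * s * s := by rw [← mul_assoc, hcen]

omit hcen in
theorem ell_r : ell A (w₀ * s * s) = ell A (w₀ * s) + 1 := by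
  have h := hA.ell_w₀_mul s
  rw [A.S_inv hs, ell_S A hs] at h
  rw [mul_assoc, A.sq_S s hs, mul_one]
  omega

theorem conj_r_Uw {x : G} (hx : x ∈ A.Uw s) :
    A.n (w₀ * s) * x * (A.n (w₀ * s))⁻¹ ∈ A.Uw s :=
  hA.conj_Uw hs hs (s_comm hA hcen hs) (ell_r hA hs) hx

theorem conj_r_n : ∃ h ∈ A.H, A.n (w₀ * s) * A.n s * (A.n (w₀ * s))⁻¹ = h * A.n s := by
  obtain ⟨a, ha, ea⟩ := A.n_mul (w₀ * s) s
  obtain ⟨b, hb, eb⟩ := A.n_mul s (w₀ * s)
  rw [s_comm hA hcen hs] at eb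
  refine ⟨a * b⁻¹, mul_mem ha (inv_mem hb), ?_⟩
  rw [ea, show A.n (w₀ * s * s) = b⁻¹ * (A.n s * A.n (w₀ * s)) by rw [eb]; group]
  group

theorem mem_Uw_of_conj_para {u : G} (hu : u ∈ A.U)
    (h : A.n (w₀ * s) * u * (A.n (w₀ * s))⁻¹ ∈ para A hs) : u ∈ A.Uw s := by
  obtain ⟨k, hk, k1, hk1, rfl⟩ := hA.exists_rad_mul (w₀ * s) hu
  set r := w₀ * s with hr
  have hy : A.n r * k1 * (A.n r)⁻¹ ∈ para A hs := by
    rw [show A.n r * k1 * (A.n r)⁻¹ =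
      (A.n r * k * (A.n r)⁻¹)⁻¹ * (A.n r * (k * k1) * (A.n r)⁻¹) by group]
    exact mul_mem (inv_mem (Or.inl (A.U_le_B hk.2))) h
  have hk11 : k1 = 1 := by
    rcases hy with hy | hy
    · obtain ⟨u', hu', h', hh', e⟩ := hy
      exact (A.unique (w := r) (one_mem _) hu' (one_mem _) hh' hk1 (one_mem _)
        (show 1 * 1 * A.n r * k1 = u' * h' * A.n r * 1 by rw [← e]; group)).2.2.2
    · exfalso
      have hl : ell A (s * r) = ell A s + ell A r := by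
        rw [s_comm hA hcen hs, ell_r hA hs, ell_S A hs, add_comm]
      have h1 := cell_mul A hl hy (n_mem_cell A r)
      rw [inv_mul_cancel_right] at h1
      have h2 : A.n r * k1 ∈ cell A r :=
        cell_right A (n_mem_cell A r) (A.U_le_B (A.Uw_le r hk1))
      exact S_ne_one A hs (mul_eq_right.1 (cell_inj A h1 h2))
  rw [hk11, mul_one]
  exact (hA.mem_Uw_iff hs).2 hk

/-- The two cells of the Levi subgroup. -/
theorem levi_cases {g : G} (hg : g ∈ levi A hs w₀) :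
    (∃ x ∈ A.Uw s, ∃ h ∈ A.H, g = x * h) ∨
      ∃ x ∈ A.Uw s, ∃ h ∈ A.H, ∃ v ∈ A.Uw s, g = x * h * A.n s * v := by
  obtain ⟨hg1, hg2⟩ := hg
  set r := w₀ * s with hr
  change A.n r * g * (A.n r)⁻¹ ∈ para A hs at hg2
  have hH : ∀ h ∈ A.H, A.n r * h * (A.n r)⁻¹ ∈ para A hs := fun h hh =>
    Or.inl (A.H_le_B (A.n_conj_H r h hh))
  rcases hg1 with hg1 | hg1
  · obtain ⟨u, hu, h, hh, rfl⟩ := hg1
    refine Or.inl ⟨u, mem_Uw_of_conj_para hA hcen hs hu ?_, h, hh, rfl⟩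
    rw [show A.n r * u * (A.n r)⁻¹ =
      (A.n r * (u * h) * (A.n r)⁻¹) * (A.n r * h * (A.n r)⁻¹)⁻¹ by group]
    exact mul_mem hg2 (inv_mem (hH h hh))
  · obtain ⟨u, hu, h, hh, v, hv, rfl⟩ := cell_nf A hg1
    refine Or.inr ⟨u, mem_Uw_of_conj_para hA hcen hs hu ?_, h, hh, v, hv, rfl⟩
    obtain ⟨a, ha, ea⟩ := conj_r_n hA hcen hs
    have hn : A.n r * A.n s * (A.n r)⁻¹ ∈ para A hs := by
      rw [ea]; exact Or.inr (cell_left A (A.H_le_B ha) (n_mem_cell A s))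
    have hv' : A.n r * v * (A.n r)⁻¹ ∈ para A hs :=
      Or.inl (A.U_le_B (A.Uw_le s (conj_r_Uw hA hcen hs hv)))
    rw [show A.n r * u * (A.n r)⁻¹ = (A.n r * (u * h * A.n s * v) * (A.n r)⁻¹) *
      ((A.n r * h * (A.n r)⁻¹) * (A.n r * A.n s * (A.n r)⁻¹) * (A.n r * v * (A.n r)⁻¹))⁻¹ by group]
    exact mul_mem hg2 (inv_mem (mul_mem (mul_mem (hH h hh) hn) hv'))

theorem Uw_le_levi : A.Uw s ≤ levi A hs w₀ := fun x hx =>
  ⟨Or.inl (A.U_le_B (A.Uw_le s hx)),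
    Or.inl (A.U_le_B (A.Uw_le s (conj_r_Uw hA hcen hs hx)))⟩

theorem n_mem_levi : A.n s ∈ levi A hs w₀ := by
  obtain ⟨a, ha, ea⟩ := conj_r_n hA hcen hs
  refine ⟨Or.inr (n_mem_cell A s), ?_⟩
  show A.n (w₀ * s) * A.n s * (A.n (w₀ * s))⁻¹ ∈ para A hs
  rw [ea]
  exact Or.inr (cell_left A (A.H_le_B ha) (n_mem_cell A s))

/-- The opposite root group is the conjugate of the root group by the fundamental reflection. -/
theorem exists_n_conj (hsq : w₀ * w₀ = 1) {x : G} (hx : x ∈ A.Uw s) :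
    ∃ x' ∈ A.Uw s, (A.n w₀)⁻¹ * x * A.n w₀ = A.n s * x' * (A.n s)⁻¹ := by
  set r := w₀ * s with hr
  obtain ⟨a, ha, ea⟩ := A.n_mul r s
  rw [show r * s = w₀ by rw [hr, mul_assoc, A.sq_S s hs, mul_one]] at ea
  obtain ⟨c, hc, ec⟩ := A.n_inv r
  have hrr : r⁻¹ = r := by
    rw [hr, mul_inv_rev, A.S_inv hs, inv_eq_of_mul_eq_one_right hsq, ← hr]; exact hcen
  rw [hrr] at ec
  obtain ⟨d, hd, ed⟩ := A.n_inv s
  rw [A.S_inv hs] at ed
  set z := a * x * a⁻¹ with hz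
  have hzU : z ∈ A.Uw s := hA.H_conj_Uw hs ha hx
  have hx1 : c * (A.n r * z * (A.n r)⁻¹) * c⁻¹ ∈ A.Uw s :=
    hA.H_conj_Uw hs hc (conj_r_Uw hA hcen hs hzU)
  have he : (A.n s)⁻¹ * d * A.n s ∈ A.H := A.n_conj_H' _ hd
  refine ⟨_, hA.H_conj_Uw hs he hx1, ?_⟩
  rw [show A.n w₀ = a⁻¹ * (A.n r * A.n s) by rw [ea]; group,
    show (a⁻¹ * (A.n r * A.n s))⁻¹ * x * (a⁻¹ * (A.n r * A.n s)) =
      (A.n s)⁻¹ * ((A.n r)⁻¹ * z * A.n r) * A.n s by simp only [hz]; group,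
    show (A.n r)⁻¹ * z * A.n r = c * (A.n r * z * (A.n r)⁻¹) * c⁻¹ by
      rw [show c * (A.n r * z * (A.n r)⁻¹) * c⁻¹ = c * A.n r * z * (c * A.n r)⁻¹ by group, ← ec,
        inv_inv]]
  set x1 := c * (A.n r * z * (A.n r)⁻¹) * c⁻¹
  conv_lhs => rw [show (A.n s)⁻¹ * x1 * A.n s = (A.n s)⁻¹ * x1 * ((A.n s)⁻¹)⁻¹ by rw [inv_inv], ed]
  group

end Cfsg.Agent.H40.Ree
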