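import Cfsg.Agent.H40.Ree.Levi
import Cfsg.Agent.Linear.Mult.Killed

/-!
Split Tits systems of dihedral type: central extensions with kernel of order a prime not dividing the
characteristic or the torus, split over both rank one subgroups, are split.
-/

set_option autoImplicit false
set_option linter.unusedSectionVars false

namespace Cfsg.Agent.H40.Ree

open Cfsg.Agent.H28 Cfsg.Agent.H54.BNC Cfsg.Agent.H13.Split Cfsg.Agent.H74.RootExt
open Cfsg.Agent.Linear.Mult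
open Cfsg.Agent.H37 (Tits.Ambient)

variable {G W : Type*} [Group G] [Group W] {A : Tits.Ambient G W}

/-- The data of the two rank one subgroups. -/
structure Dih (A : Tits.Ambient G W) (w₀ : W) (s : Fin 2 → W) (L : Fin 2 → Subgroup G) : Prop where
  base : SBase A 2 w₀
  S_eq : A.S = Set.range s
  cen : ∀ i, s i * w₀ = w₀ * s i
  rot : (s 0 * s 1) ^ 8 = 1
  free : ∀ i j : ℕ, i < 8 → j < 2 → (s 0 * s 1) ^ i * s 0 ^ j = 1 → i = 0 ∧ j = 0
  commH : ∀ a ∈ A.H, ∀ b ∈ A.H, Commute a b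
  Uw_le : ∀ i, A.Uw (s i) ≤ L i
  le_levi : ∀ i (hs : s i ∈ A.S), L i ≤ levi A hs w₀
  n_mem : ∀ i, ∃ h ∈ A.H, h * A.n (s i) ∈ L i

variable {X : Type*} [Group X] {l : ℕ} (E : LExt l X G) {w₀ : W} {s : Fin 2 → W}
  {L : Fin 2 → Subgroup G} [Finite X] [Finite G]

theorem ker_eq_one (D : Dih A w₀ s L) (hl2 : l ≠ 2) (hlH : ¬ l ∣ Nat.card A.H)
    (hK : ∀ i, E.Killed (L i)) (hab : ∀ i, AbCoprime l (L i))
    (hker : E.proj.ker ≤ commutator X) : ∀ z, E.proj z = 1 → z = 1 := by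
  classical
  have hmem : ∀ i, s i ∈ A.S := fun i => D.S_eq ▸ ⟨i, rfl⟩
  haveI hfin : Finite E.proj.ker := inferInstance
  let P : PExt 2 X G :=
    { toCExtData := E.toCExtData
      hp := Nat.prime_two
      fin := inferInstance
      coprime := by
        rw [E.card_ker]
        exact fun h => hl2 ((Nat.prime_dvd_prime_iff_eq Nat.prime_two E.hl).1 h).symm }
  have hA := D.base
  have hproj : ∀ {u : G}, u ∈ A.U → E.proj (P.can u) = u := fun hu => P.proj_can (hA.isP_U hu)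
  -- the lift of the torus
  have habH : AbCoprime l A.H := ⟨Nat.card A.H,
    (E.hl.coprime_iff_not_dvd.2 hlH).symm, fun x hx => by
      have : (⟨x, hx⟩ : A.H) ^ Nat.card A.H = 1 := pow_card_eq_one'
      rw [show x ^ Nat.card A.H = 1 from congrArg Subtype.val this]
      exact one_mem _⟩
  have hKH : E.Killed A.H := by
    intro z hz _
    have : ⁅E.pre A.H, E.pre A.H⁆ = ⊥ := by
      rw [eq_bot_iff, Subgroup.commutator_le]
      intro a ha b hb
      rw [Subgroup.mem_bot, E.cm_eq (a := a) (b := b) rfl rfl,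
        E.cm_eq_one_of_abCoprime habH (fun c hc => D.commH c hc _ hb) ha]
    rw [this] at hz
    exact Subgroup.mem_bot.1 hz
  set T := E.lft A.H
  have hTone : ∀ {z}, z ∈ T → E.proj z = 1 → z = 1 := fun hz h => E.lft_eq_one hKH hz h
  have hTH : ∀ {z}, z ∈ T → E.proj z ∈ A.H := fun hz => E.lft_le _ hz
  have hTconj : ∀ a : X, (∀ h ∈ A.H, E.proj a * h * (E.proj a)⁻¹ ∈ A.H) → ∀ c ∈ T, a * c * a⁻¹ ∈ T :=
    fun a ha c hc => E.conj_mem_lft ha hc
  have hHn : ∀ a w h0, h0 ∈ A.H → E.proj a = h0 * A.n w →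
      ∀ h ∈ A.H, E.proj a * h * (E.proj a)⁻¹ ∈ A.H := by
    intro a w h0 hh0 ea h hh
    rw [ea, show h0 * A.n w * h * (h0 * A.n w)⁻¹ = h0 * (A.n w * h * (A.n w)⁻¹) * h0⁻¹ by group]
    exact mul_mem (mul_mem hh0 (A.n_conj_H w h hh)) (inv_mem hh0)
  -- the rank one lifts
  have hliftU : ∀ i, ∀ x ∈ A.Uw (s i), P.can x ∈ E.lft (L i) := by
    intro i x hx
    obtain ⟨a, ha, hax⟩ := E.exists_lft (hab i) (D.Uw_le i hx)
    obtain ⟨k, hk⟩ := hA.isP_U (A.Uw_le _ hx)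
    have : a = P.can x := P.eq_can ⟨k, E.lft_eq_one (hK i) (pow_mem ha _)
      (by rw [map_pow, hax, hk])⟩ hax
    exact this ▸ ha
  have hliftH : ∀ i, ∀ a ∈ E.lft (L i), E.proj a ∈ A.H → a ∈ T := by
    intro i a ha haH
    obtain ⟨c, hc, hcp⟩ := E.exists_lft habH haH
    suffices a = c by rwa [this]
    have hz : E.proj (c⁻¹ * a) = 1 := by rw [map_mul, map_inv, hcp, inv_mul_cancel]
    have h1 : a ^ Nat.card A.H = 1 := E.lft_eq_one (hK i) (pow_mem ha _) (by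
      rw [map_pow]
      exact congrArg Subtype.val (pow_card_eq_one' (x := (⟨_, haH⟩ : A.H))))
    have h2 : c ^ Nat.card A.H = 1 := hTone (pow_mem hc _) (by
      rw [map_pow, hcp]
      exact congrArg Subtype.val (pow_card_eq_one' (x := (⟨_, haH⟩ : A.H))))
    refine (inv_mul_eq_one.1 (E.eq_one_of_pow hz (E.hl.coprime_iff_not_dvd.2 hlH).symm ?_)).symm
    have hcom : Commute c⁻¹ a := by
      have := (E.ker_central hz c)
      rw [mul_inv_cancel_left] at this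
      exact eq_mul_inv_of_mul_eq this.symm
    rw [hcom.mul_pow, inv_pow, h2, h1, inv_one, one_mul]
  have hnh : ∀ i, ∃ a ∈ E.lft (L i), ∃ h ∈ A.H, E.proj a = h * A.n (s i) := fun i => by
    obtain ⟨h, hh, hm⟩ := D.n_mem i
    obtain ⟨a, ha, e⟩ := E.exists_lft (hab i) hm
    exact ⟨a, ha, h, hh, e⟩
  choose N hN hNh hNmem hNp using hnh
  have hTN : ∀ i, ∀ c ∈ T, N i * c * (N i)⁻¹ ∈ T := fun i c hc =>
    hTconj _ (hHn _ _ _ (hNmem i) (hNp i)) c hc
  have hTN' : ∀ i, ∀ c ∈ T, (N i)⁻¹ * c * N i ∈ T := by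
    intro i c hc
    have h := hTconj (N i)⁻¹ (fun h hh => by
      rw [map_inv, inv_inv, hNp i, show (hNh i * A.n (s i))⁻¹ * h * (hNh i * A.n (s i)) =
        (A.n (s i))⁻¹ * ((hNh i)⁻¹ * h * hNh i) * A.n (s i) by group]
      exact A.n_conj_H' _ (mul_mem (mul_mem (inv_mem (hNmem i)) hh) (hNmem i))) c hc
    rwa [inv_inv] at h
  have hNsq : ∀ i, N i * N i ∈ T := fun i => hliftH i _ (mul_mem (hN i) (hN i)) (by
    obtain ⟨a, ha, e⟩ := A.n_mul (s i) (s i)
    rw [A.sq_S _ (hmem i), A.n_one, mul_one] at e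
    rw [map_mul, hNp i, show hNh i * A.n (s i) * (hNh i * A.n (s i)) =
      hNh i * (A.n (s i) * hNh i * (A.n (s i))⁻¹) * (A.n (s i) * A.n (s i)) by group, e]
    exact mul_mem (mul_mem (hNmem i) (A.n_conj_H _ _ (hNmem i))) ha)
  set Q := N 0 * N 1 with hQ
  -- projection to the Weyl group
  let π : X → W → Prop := fun a w => ∃ h ∈ A.H, E.proj a = h * A.n w
  have πmul : ∀ {a b w w'}, π a w → π b w' → π (a * b) (w * w') := by
    rintro a b w w' ⟨h, hh, ea⟩ ⟨h', hh', eb⟩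
    obtain ⟨c, hc, ec⟩ := A.n_mul w w'
    refine ⟨h * (A.n w * h' * (A.n w)⁻¹) * c,
      mul_mem (mul_mem hh (A.n_conj_H _ _ hh')) hc, ?_⟩
    rw [map_mul, ea, eb, mul_assoc _ c, ← ec]
    group
  have π1 : ∀ {a}, E.proj a ∈ A.H → π a 1 := fun ha => ⟨_, ha, by rw [A.n_one, mul_one]⟩
  have πN : ∀ i, π (N i) (s i) := fun i => ⟨_, hNmem i, hNp i⟩
  have πpow : ∀ k : ℕ, π (Q ^ k) ((s 0 * s 1) ^ k) := fun k => by
    induction k with
    | zero => simpa using π1 (a := 1) (by rw [map_one]; exact one_mem _)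
    | succ k ih => rw [pow_succ, pow_succ]; exact πmul ih (πmul (πN 0) (πN 1))
  have πuniq : ∀ {a w w'}, π a w → π a w' → w = w' := by
    rintro a w w' ⟨h, hh, ea⟩ ⟨h', hh', eb⟩
    exact (A.unique (w := w) (w' := w') (one_mem _) (one_mem _) hh hh' (one_mem (A.Uw w))
      (one_mem (A.Uw w')) (show 1 * h * A.n w * 1 = 1 * h' * A.n w' * 1 by
        rw [one_mul, one_mul, mul_one, mul_one, ← ea, eb])).1
  have hTQ : ∀ k : ℕ, ∀ c ∈ T, Q ^ k * c * (Q ^ k)⁻¹ ∈ T := fun k => by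
    induction k with
    | zero => intro c hc; simpa using hc
    | succ k ih =>
      intro c hc
      rw [pow_succ, show Q ^ k * Q * c * (Q ^ k * Q)⁻¹ =
        Q ^ k * (N 0 * (N 1 * c * (N 1)⁻¹) * (N 0)⁻¹) * (Q ^ k)⁻¹ by simp only [hQ]; group]
      exact ih _ (hTN 0 _ (hTN 1 c hc))
  -- the inverse of the rotation
  have hflip : ∀ k : ℕ, ∃ c ∈ T, N 0 * Q ^ k * (N 0)⁻¹ = c * (Q ^ k)⁻¹ := by
    intro k
    induction k with
    | zero => exact ⟨1, one_mem _, by simp⟩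
    | succ k ih =>
      obtain ⟨c, hc, e⟩ := ih
      have h1 : N 0 * Q * (N 0)⁻¹ = (N 0 * N 0) * (N 1 * N 1 * Q⁻¹) := by rw [hQ]; group
      have hqi : ∀ c ∈ T, (Q ^ k)⁻¹ * c * Q ^ k ∈ T := fun c hc => by
        have h := hTconj (Q ^ k)⁻¹ (fun h hh => by
          obtain ⟨h0, hh0, e0⟩ := πpow k
          rw [map_inv, inv_inv, e0, show (h0 * A.n ((s 0 * s 1) ^ k))⁻¹ * h *
            (h0 * A.n ((s 0 * s 1) ^ k)) = (A.n ((s 0 * s 1) ^ k))⁻¹ * (h0⁻¹ * h * h0) *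
              A.n ((s 0 * s 1) ^ k) by group]
          exact A.n_conj_H' _ (mul_mem (mul_mem (inv_mem hh0) hh) hh0)) c hc
        rwa [inv_inv] at h
      refine ⟨c * ((Q ^ k)⁻¹ * (N 0 * N 0 * (N 1 * N 1)) * Q ^ k),
        mul_mem hc (hqi _ (mul_mem (hNsq 0) (hNsq 1))), ?_⟩
      rw [pow_succ, show N 0 * (Q ^ k * Q) * (N 0)⁻¹ =
        (N 0 * Q ^ k * (N 0)⁻¹) * (N 0 * Q * (N 0)⁻¹) by group, e, h1]
      group
  have hQ8 : Q ^ 8 ∈ T := by
    have hp : E.proj (Q ^ 8) ∈ A.H := by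
      obtain ⟨h, hh, e⟩ := πpow 8
      rw [D.rot, A.n_one, mul_one] at e
      rwa [e]
    obtain ⟨t, ht, z, hz, e⟩ := E.exists_lft_mul habH hp
    obtain ⟨c, hc, ec⟩ := hflip 8
    rw [e, show N 0 * (t * z) * (N 0)⁻¹ = (N 0 * t * (N 0)⁻¹) * (N 0 * z * (N 0)⁻¹) by group,
      E.ker_central hz (N 0), mul_inv_cancel_right, mul_inv_rev,
      show c * (z⁻¹ * t⁻¹) = c * z⁻¹ * t⁻¹ by group,
      show c * z⁻¹ * t⁻¹ = c * t⁻¹ * z⁻¹ by
        rw [mul_assoc, mul_assoc, ← E.ker_central (z := z⁻¹) (by rw [map_inv, hz, inv_one]) t⁻¹]]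
      at ec
    set d := (c * t⁻¹)⁻¹ * (N 0 * t * (N 0)⁻¹) with hd
    have hzz : d * z = z⁻¹ := by
      rw [hd, mul_assoc, ec, inv_mul_cancel_left]
    have hz2 : z * z = 1 := by
      have hdT : d ∈ T := mul_mem (inv_mem (mul_mem hc (inv_mem ht))) (hTN 0 t ht)
      have hd1 : E.proj d = 1 := by
        have := congrArg E.proj hzz
        rwa [map_mul, map_inv, hz, mul_one, inv_one] at this
      rw [hTone hdT hd1, one_mul] at hzz
      calc z * z = z * z⁻¹ := by rw [← hzz]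
        _ = 1 := mul_inv_cancel z
    have hz1 : z = 1 := E.eq_one_of_pow hz (k := 2)
      ((Nat.coprime_primes Nat.prime_two E.hl).2 (Ne.symm hl2)) (by rw [pow_two, hz2])
    rw [e, hz1, mul_one]
    exact ht
  -- the lift of the monomial subgroup
  let NS : Set X := {a | ∃ c ∈ T, ∃ i j : ℕ, a = c * Q ^ i * N 0 ^ j}
  have NS_red : ∀ {a}, a ∈ NS → ∃ c ∈ T, ∃ i j : ℕ, i < 8 ∧ j < 2 ∧ a = c * Q ^ i * N 0 ^ j := by
    rintro a ⟨c, hc, i, j, rfl⟩
    have h8 : ∀ k : ℕ, (Q ^ 8) ^ k ∈ T := fun k => pow_mem hQ8 k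
    have hsq : ∀ k : ℕ, (N 0 * N 0) ^ k ∈ T := fun k => pow_mem (hNsq 0) k
    refine ⟨c * (Q ^ 8) ^ (i / 8) * (Q ^ (i % 8) * (N 0 * N 0) ^ (j / 2) * (Q ^ (i % 8))⁻¹),
      mul_mem (mul_mem hc (h8 _)) (hTQ _ _ (hsq _)), i % 8, j % 2, Nat.mod_lt _ (by norm_num),
      Nat.mod_lt _ (by norm_num), ?_⟩
    have e1 : Q ^ i = (Q ^ 8) ^ (i / 8) * Q ^ (i % 8) := by
      rw [← pow_mul, ← pow_add, Nat.div_add_mod]
    have e2 : N 0 ^ j = (N 0 * N 0) ^ (j / 2) * N 0 ^ (j % 2) := by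
      rw [← pow_two, ← pow_mul, ← pow_add, Nat.div_add_mod]
    rw [e1, e2]
    group
  have NS_H : ∀ {a}, a ∈ NS → E.proj a ∈ A.H → a ∈ T := by
    intro a ha haH
    obtain ⟨c, hc, i, j, hi, hj, rfl⟩ := NS_red ha
    have h1 : π (c * Q ^ i * N 0 ^ j) ((s 0 * s 1) ^ i * s 0 ^ j) := by
      have hN0 : ∀ j : ℕ, π (N 0 ^ j) (s 0 ^ j) := fun j => by
        induction j with
        | zero => simpa using π1 (a := 1) (by rw [map_one]; exact one_mem _)
        | succ j ih => rw [pow_succ, pow_succ]; exact πmul ih (πN 0)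
      have := πmul (πmul (π1 (hTH hc)) (πpow i)) (hN0 j)
      rwa [one_mul] at this
    obtain ⟨rfl, rfl⟩ := D.free i j hi hj (πuniq h1 (π1 haH))
    simpa using hc
  have NS_T : ∀ c ∈ T, c ∈ NS := fun c hc => ⟨c, hc, 0, 0, by simp⟩
  have NS_Tmul : ∀ c ∈ T, ∀ {a}, a ∈ NS → c * a ∈ NS := by
    rintro c hc a ⟨d, hd, i, j, rfl⟩
    exact ⟨c * d, mul_mem hc hd, i, j, by group⟩
  have NS_N0 : ∀ {a}, a ∈ NS → N 0 * a ∈ NS := by
    intro a ha
    obtain ⟨d, hd, i, j, hi, hj, rfl⟩ := NS_red ha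
    obtain ⟨c, hc, e⟩ := hflip i
    obtain ⟨q, hq, hqe⟩ : ∃ q ∈ T, (Q ^ i)⁻¹ = q * Q ^ (8 - i) := by
      refine ⟨(Q ^ 8)⁻¹, inv_mem hQ8, ?_⟩
      rw [show (8 : ℕ) = i + (8 - i) by omega, pow_add, Nat.add_sub_cancel_left]
      group
    refine ⟨(N 0 * d * (N 0)⁻¹) * c * q, mul_mem (mul_mem (hTN 0 d hd) hc) hq, 8 - i, j + 1, ?_⟩
    rw [pow_succ' (N 0) j, show N 0 * (d * Q ^ i * N 0 ^ j) =
      (N 0 * d * (N 0)⁻¹) * (N 0 * Q ^ i * (N 0)⁻¹) * (N 0 * N 0 ^ j) by group, e, hqe]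
    group
  have NS_N1 : ∀ {a}, a ∈ NS → N 1 * a ∈ NS := by
    intro a ha
    have hQa : Q * a ∈ NS := by
      obtain ⟨d, hd, i, j, rfl⟩ := ha
      exact ⟨Q * d * Q⁻¹, by simpa using hTQ 1 d hd, i + 1, j, by rw [pow_succ']; group⟩
    have h := NS_Tmul _ (inv_mem (hNsq 0)) (NS_N0 hQa)
    rwa [show (N 0 * N 0)⁻¹ * (N 0 * (Q * a)) = N 1 * a by rw [hQ]; group] at h
  have NS_Ni : ∀ i, ∀ {a}, a ∈ NS → N i * a ∈ NS := fun i => by
    rcases (show ∀ i : Fin 2, i = 0 ∨ i = 1 by decide) i with rfl | rfl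
    exacts [NS_N0, NS_N1]
  have NS_π : ∀ {a}, a ∈ NS → ∃ w, π a w := by
    rintro a ⟨c, hc, i, j, rfl⟩
    have hN0 : ∀ j : ℕ, π (N 0 ^ j) (s 0 ^ j) := fun j => by
      induction j with
      | zero => simpa using π1 (a := 1) (by rw [map_one]; exact one_mem _)
      | succ j ih => rw [pow_succ, pow_succ]; exact πmul ih (πN 0)
    exact ⟨_, πmul (πmul (π1 (hTH hc)) (πpow i)) (hN0 j)⟩
  -- the Bruhat set
  let Y : Set X := {g | ∃ u ∈ A.U, ∃ a ∈ NS, ∃ v ∈ A.U, g = P.can u * a * P.can v}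
  have canmul : ∀ {u v}, u ∈ A.U → v ∈ A.U → P.can (u * v) = P.can u * P.can v :=
    fun hu hv => P.can_mul hA.pU hu hv
  have Y_U : ∀ u ∈ A.U, ∀ g ∈ Y, P.can u * g ∈ Y := by
    rintro u hu g ⟨u', hu', a, ha, v, hv, rfl⟩
    exact ⟨u * u', mul_mem hu hu', a, ha, v, hv, by rw [canmul hu hu']; group⟩
  have canconj : ∀ {u : G} (a : X), u ∈ A.U →
      a * P.can u * a⁻¹ = P.can (E.proj a * u * (E.proj a)⁻¹) :=
    fun a hu => P.can_conj (hA.isP_U hu) rfl
  have Y_T : ∀ c ∈ T, ∀ g ∈ Y, c * g ∈ Y := by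
    rintro c hc g ⟨u, hu, a, ha, v, hv, rfl⟩
    refine ⟨_, A.H_conj_U _ (hTH hc) _ hu, c * a, NS_Tmul c hc ha, v, hv, ?_⟩
    rw [← canconj c hu]
    group
  -- a root element moved through a monomial element
  have move : ∀ i, ∀ {a w}, π a w → ell A (s i * w) = ell A w + 1 → ∀ x ∈ A.Uw (s i),
      (E.proj a)⁻¹ * x * E.proj a ∈ A.U := by
    rintro i a w ⟨h, hh, e⟩ hl x hx
    have hs := hmem i
    have h1 : h⁻¹ * x * h ∈ A.Uw (s i) := by
      have := hA.H_conj_Uw hs (inv_mem hh) hx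
      rwa [inv_inv] at this
    have h2 := hA.Uw_le_rad (w := w⁻¹) hs (by
      rw [← ell_inv A (w⁻¹ * s i), mul_inv_rev, inv_inv, A.S_inv hs, hl, ell_inv]) h1
    obtain ⟨k, hk, ek⟩ := A.n_inv w
    rw [e, show (h * A.n w)⁻¹ * x * (h * A.n w) = (A.n w)⁻¹ * (h⁻¹ * x * h) * (A.n w)⁻¹⁻¹ by group,
      ek, show k * A.n w⁻¹ * (h⁻¹ * x * h) * (k * A.n w⁻¹)⁻¹ =
        k * (A.n w⁻¹ * (h⁻¹ * x * h) * (A.n w⁻¹)⁻¹) * k⁻¹ by group]
    exact A.H_conj_U k hk _ h2.2
  have long : ∀ i, ∀ {a w}, a ∈ NS → π a w → ell A (s i * w) = ell A w + 1 →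
      ∀ x ∈ A.Uw (s i), ∀ v ∈ A.U, N i * P.can x * a * P.can v ∈ Y := by
    intro i a w ha hπ hl x hx v hv
    have hx' := move i hπ hl x hx
    refine ⟨1, one_mem _, N i * a, NS_Ni i ha, _, mul_mem hx' hv, ?_⟩
    rw [P.can_one, canmul hx' hv, one_mul]
    have := canconj a⁻¹ (A.Uw_le _ hx)
    rw [map_inv, inv_inv, inv_inv] at this
    rw [← this]
    group
  have Y_N : ∀ i, ∀ g ∈ Y, N i * g ∈ Y := by
    rintro i g ⟨u, hu, a, ha, v, hv, rfl⟩
    have hs := hmem i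
    obtain ⟨k, hk, x, hx, rfl⟩ := hA.exists_rad_mul (s i) hu
    have hk' : E.proj (N i) * k * (E.proj (N i))⁻¹ ∈ A.U := by
      rw [hNp i, show hNh i * A.n (s i) * k * (hNh i * A.n (s i))⁻¹ =
        hNh i * (A.n (s i) * k * (A.n (s i))⁻¹) * (hNh i)⁻¹ by group]
      exact A.H_conj_U _ (hNmem i) _ hk.2
    suffices N i * P.can x * a * P.can v ∈ Y by
      have h := Y_U _ hk' _ this
      rwa [← canconj (N i) hk.1, show N i * P.can k * (N i)⁻¹ * (N i * P.can x * a * P.can v) =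
        N i * (P.can k * P.can x * a * P.can v) by group, ← canmul hk.1 (A.Uw_le _ hx)] at h
    obtain ⟨w, hw⟩ := NS_π ha
    rcases ell_cases A hs w with hl | hl
    · exact long i ha hw hl x hx v hv
    -- the short case: split off the reflection
    set b := (N i)⁻¹ * a with hb
    have hbNS : b ∈ NS := by
      have h := NS_Tmul _ (inv_mem (hNsq i)) (NS_Ni i ha)
      rwa [show (N i * N i)⁻¹ * (N i * a) = b by rw [hb]; group] at h
    obtain ⟨w', hw'⟩ := NS_π hbNS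
    have hww : w = s i * w' := πuniq hw (by
      have := πmul (πN i) hw'
      rwa [hb, mul_inv_cancel_left] at this)
    have hl' : ell A (s i * w') = ell A w' + 1 := by
      rw [← hww]
      have : s i * w = w' := by rw [hww, ← mul_assoc, A.sq_S _ hs, one_mul]
      rw [← this]; omega
    have hgL : N i * P.can x * N i ∈ E.lft (L i) :=
      mul_mem (mul_mem (hN i) (hliftU i x hx)) (hN i)
    rw [show N i * P.can x * a * P.can v = (N i * P.can x * N i) * b * P.can v by rw [hb]; group]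
    have hPL : ∀ {c}, c ∈ E.lft (L i) → E.proj c ∈ L i := fun hc => E.lft_le _ hc
    rcases levi_cases hA (D.cen i) hs (D.le_levi i hs (hPL hgL)) with
      ⟨y, hy, h, hh, e⟩ | ⟨y, hy, h, hh, y', hy', e⟩
    · have hc : (P.can y)⁻¹ * (N i * P.can x * N i) ∈ T :=
        hliftH i _ (mul_mem (inv_mem (hliftU i y hy)) hgL) (by
          rw [map_mul, map_inv, hproj (A.Uw_le _ hy), e, inv_mul_cancel_left]; exact hh)
      refine ⟨y, A.Uw_le _ hy, _, NS_Tmul _ hc hbNS, v, hv, ?_⟩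
      group
    · have hc : (P.can y)⁻¹ * (N i * P.can x * N i) * (P.can y')⁻¹ * (N i)⁻¹ ∈ T :=
        hliftH i _ (mul_mem (mul_mem (mul_mem (inv_mem (hliftU i y hy)) hgL)
          (inv_mem (hliftU i y' hy'))) (inv_mem (hN i))) (by
          rw [map_mul, map_mul, map_mul, map_inv, map_inv, map_inv, hproj (A.Uw_le _ hy),
            hproj (A.Uw_le _ hy'), e, hNp i,
            show y⁻¹ * (y * h * A.n (s i) * y') * y'⁻¹ * (hNh i * A.n (s i))⁻¹ = h * (hNh i)⁻¹ by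
              group]
          exact mul_mem hh (inv_mem (hNmem i)))
      have h1 := Y_U _ (A.Uw_le _ hy) _ (Y_T _ hc _ (long i hbNS hw' hl' y' hy' v hv))
      rwa [show P.can y * ((P.can y)⁻¹ * (N i * P.can x * N i) * (P.can y')⁻¹ * (N i)⁻¹ *
        (N i * P.can y' * b * P.can v)) = N i * P.can x * N i * b * P.can v by group] at h1
  -- the stabiliser
  let S' : Submonoid X :=
    { carrier := {g | ∀ y ∈ Y, g * y ∈ Y}
      one_mem' := fun y hy => by rwa [one_mul]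
      mul_mem' := fun {a b} ha hb y hy => by rw [mul_assoc]; exact ha _ (hb y hy) }
  let K : Subgroup X :=
    { S' with
      inv_mem' := fun {a} ha => by
        have e : a⁻¹ = a ^ (orderOf a - 1) := (eq_inv_of_mul_eq_one_left (by
          rw [← pow_succ, Nat.sub_add_cancel (orderOf_pos a), pow_orderOf_eq_one])).symm
        rw [e]
        exact pow_mem (show a ∈ S' from ha) _ }
  have hKU : ∀ u ∈ A.U, P.can u ∈ K := Y_U
  have hKT : ∀ c ∈ T, c ∈ K := Y_T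
  have hKN : ∀ i, N i ∈ K := Y_N
  have hKY : ∀ g ∈ K, g ∈ Y := fun g hg => by
    have h1 : (1 : X) ∈ Y :=
      ⟨1, one_mem _, 1, NS_T 1 (one_mem _), 1, one_mem _, by rw [P.can_one]; group⟩
    simpa using hg 1 h1
  have hK1 : ∀ g ∈ K, E.proj g = 1 → g = 1 := by
    intro g hg h1
    obtain ⟨u, hu, a, ha, v, hv, rfl⟩ := hKY g hg
    rw [map_mul, map_mul, hproj hu, hproj hv] at h1
    have hB : E.proj a ∈ A.B := by
      rw [show E.proj a = u⁻¹ * v⁻¹ by
        rw [← mul_right_inj u, mul_inv_cancel_left]; exact eq_inv_of_mul_eq_one_left h1]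
      exact mul_mem (inv_mem (A.U_le_B hu)) (inv_mem (A.U_le_B hv))
    have hH : E.proj a ∈ A.H := by
      obtain ⟨w, h, hh, e⟩ := NS_π ha
      have hw : w = 1 := by
        refine A.eq_one_of_n_mem_B ?_
        rw [show A.n w = h⁻¹ * E.proj a by rw [e, inv_mul_cancel_left]]
        exact mul_mem (inv_mem (A.H_le_B hh)) hB
      rw [e, hw, A.n_one, mul_one]; exact hh
    have hvH := A.H_conj_U _ hH v hv
    have h2 := A.unique (w := 1) (w' := 1) (mul_mem hu hvH) (one_mem _) hH (one_mem _)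
      (one_mem (A.Uw 1)) (one_mem (A.Uw 1))
      (show u * (E.proj a * v * (E.proj a)⁻¹) * E.proj a * A.n 1 * 1 = 1 * 1 * A.n 1 * 1 by
        rw [A.n_one]; simpa [mul_assoc] using h1)
    have ha1 : a = 1 := hTone (NS_H ha hH) h2.2.2.1
    subst ha1
    have huv : u * v = 1 := by rwa [map_one, mul_one] at h1
    rw [mul_one, ← canmul hu hv, huv, P.can_one]
  have htop : K.map E.proj = ⊤ := by
    refine eq_top_iff.2 fun g _ => ?_
    have hU : A.U ≤ K.map E.proj := fun u hu => ⟨_, hKU u hu, hproj hu⟩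
    have hH : A.H ≤ K.map E.proj := fun h hh => by
      obtain ⟨c, hc, e⟩ := E.exists_lft habH hh
      exact ⟨c, hKT c hc, e⟩
    have hn : ∀ w, A.n w ∈ K.map E.proj := by
      intro w
      have hw : w ∈ Subgroup.closure A.S := by rw [A.closure_S]; trivial
      induction hw using Subgroup.closure_induction with
      | mem x hx =>
        obtain ⟨i, rfl⟩ : x ∈ Set.range s := D.S_eq ▸ hx
        have h : hNh i * A.n (s i) ∈ K.map E.proj := ⟨_, hKN i, hNp i⟩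
        have := mul_mem (inv_mem (hH (hNmem i))) h
        rwa [inv_mul_cancel_left] at this
      | one => rw [A.n_one]; exact one_mem _
      | mul x y _ _ hx hy =>
        obtain ⟨c, hc, e⟩ := A.n_mul x y
        rw [show A.n (x * y) = c⁻¹ * (A.n x * A.n y) by rw [e]; group]
        exact mul_mem (inv_mem (hH hc)) (mul_mem hx hy)
      | inv x _ hx =>
        obtain ⟨c, hc, e⟩ := A.n_inv x
        rw [show A.n x⁻¹ = c⁻¹ * (A.n x)⁻¹ by rw [e]; group]
        exact mul_mem (inv_mem (hH hc)) (inv_mem hx)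
    obtain ⟨u, hu, h, hh, w, v, hv, rfl⟩ := A.exists_eq g
    exact mul_mem (mul_mem (mul_mem (hU hu) (hH hh)) (hn w)) (hU (A.Uw_le w hv))
  have hdec : ∀ x : X, ∃ k ∈ K, ∃ c, E.proj c = 1 ∧ x = k * c := fun x => by
    obtain ⟨k, hk, e⟩ : E.proj x ∈ K.map E.proj := by rw [htop]; trivial
    exact ⟨k, hk, k⁻¹ * x, by rw [map_mul, map_inv, e, inv_mul_cancel],
      (mul_inv_cancel_left _ _).symm⟩
  intro z hz
  refine hK1 z ((show commutator X ≤ K from ?_) (hker hz)) hz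
  rw [_root_.commutator_def, Subgroup.commutator_le]
  intro a _ b _
  obtain ⟨k, hk, c, hc, rfl⟩ := hdec a
  obtain ⟨k', hk', c', hc', rfl⟩ := hdec b
  rw [E.cm_eq (a := k * c) (b := k' * c') rfl rfl, ← E.cm_eq (a := k) (b := k')
    (by rw [map_mul, hc, mul_one]) (by rw [map_mul, hc', mul_one]), commutatorElement_def]
  exact mul_mem (mul_mem (mul_mem hk hk') (inv_mem hk)) (inv_mem hk')

end Cfsg.Agent.H40.Ree
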