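import Cfsg.Agent.H40.Ree.RankOne
import Cfsg.Agent.H40.Ree.OddEngine
import Cfsg.Agent.H56.TwAut.F4

/-!
`²F₄(q)` as a split Tits system of dihedral type.
-/

set_option autoImplicit false
set_option maxRecDepth 100000

namespace Cfsg.Agent.H40.Ree

open Cfsg.Lie Cfsg.Agent.H37 Cfsg.Agent.H37.RootSys Cfsg.Agent.H37.Twist Cfsg.Agent.H56.ChevAut
open Cfsg.Agent.H56.TwAut Cfsg.Agent.H56.TwAut.F4 Cfsg.Agent.H37.Twist.F4
open Cfsg.Agent.H74.RootExt Cfsg.Agent.H13.Split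

variable {K : Type*} [Field K] [Fintype K] [CharP K 2] {φ : K →+* K} {m : ℕ}
  (hφ : ∀ t, φ t = t ^ 2 ^ m) (hK : Fintype.card K = 2 ^ (2 * m + 1))

/-- The two fundamental reflections. -/
noncomputable abbrev sW (φ : K →+* K) (i : Fin 2) : DihedralGroup 8 := (fold φ).gens i

theorem finiteGT : Finite (GT hφ hK) := Subtype.finite

theorem hel_comm (p q : Kˣ × Kˣ) : Commute (hel hφ hK p) (hel hφ hK q) := by
  show _ = _
  rw [← hel_mul, ← hel_mul, mul_comm]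

theorem H_comm : ∀ a ∈ (Md hφ hK).tw.H, ∀ b ∈ (Md hφ hK).tw.H, Commute a b := by
  intro a ha b hb
  obtain ⟨p, rfl⟩ := exists_hel hφ hK ha
  obtain ⟨q, rfl⟩ := exists_hel hφ hK hb
  exact hel_comm hφ hK p q

theorem hel_inj : Function.Injective (hel hφ hK) := fun p q h => by
  have e := tG_injective (congrArg (lift (Md hφ hK)) h)
  exact Prod.ext (congrFun e (3 : Fin 4)) (congrFun e (2 : Fin 4))

theorem card_tw_H : Nat.card (Md hφ hK).tw.H = (2 ^ (2 * m + 1) - 1) ^ 2 := by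
  have h : Function.Bijective (fun p : Kˣ × Kˣ =>
      (⟨hel hφ hK p, hel_mem hφ hK p⟩ : (Md hφ hK).tw.H)) := by
    refine ⟨fun p q e => hel_inj hφ hK (congrArg Subtype.val e), fun g => ?_⟩
    obtain ⟨p, e⟩ := exists_hel hφ hK g.2
    exact ⟨p, Subtype.ext e.symm⟩
  rw [← Nat.card_eq_of_bijective _ h, Nat.card_prod, Nat.card_units, Nat.card_eq_fintype_card, hK,
    pow_two]

theorem odd_card_H : ¬ 2 ∣ Nat.card (Md hφ hK).tw.H := by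
  rw [card_tw_H hφ hK]
  intro h
  have h1 := Nat.prime_two.dvd_of_dvd_pow h
  have h2 : 2 ∣ 2 ^ (2 * m + 1) := dvd_pow_self 2 (by omega)
  have h3 : 1 ≤ 2 ^ (2 * m + 1) := Nat.one_le_two_pow
  omega

theorem w0_sq : (Md hφ hK).w0 * (Md hφ hK).w0 = 1 := by
  refine (fold φ).ι_inj ?_
  rw [map_mul, map_one, Model.ι_w0]
  have := inv_w0_mul (Q := QD K) (QD K).X.w0
  have h0 : (QD K).X.good.inv (QD K).X.w0 = chevF4.nroots / 2 := by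
    have := inv_w0_mul (Q := QD K) 1
    rwa [mul_one, (QD K).X.good.inv_one, add_zero] at this
  exact (QD K).X.good.eq_one_of_inv_eq_zero (by omega)

theorem sbase : SBase (Md hφ hK).tw 2 (Md hφ hK).w0 := by
  haveI := finiteGT hφ hK
  set A := (Md hφ hK).tw
  set w₀ := (Md hφ hK).w0
  refine ⟨Nat.prime_two, (Md hφ hK).tw_Uw_w0, ?_, odd_card_H hφ hK, fun s hs x hx => ?_⟩
  · have h := isPGroup_U (Md hφ hK)
    rwa [ringChar.eq K 2] at h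
  refine (mem_rad A).2 ⟨A.Uw_le s hx, ?_⟩
  obtain ⟨c, hc, ec⟩ := A.n_inv w₀
  rw [inv_eq_of_mul_eq_one_right (w0_sq hφ hK)] at ec
  obtain ⟨a, ha, ea⟩ := A.n_mul w₀ s
  have h1 := (flip_tw hφ hK).flip s x hx
  rw [mem_Vopp, ec, show c * A.n w₀ * (A.n s * x * (A.n s)⁻¹) * A.n w₀ =
    c * (A.n w₀ * A.n s) * x * (A.n w₀ * A.n s)⁻¹ * (A.n w₀ * A.n w₀) by group, ea] at h1
  obtain ⟨d, hd, ed⟩ := A.n_mul w₀ w₀
  rw [w0_sq hφ hK, A.n_one, mul_one] at ed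
  have hnn : A.n w₀ * A.n w₀ = c⁻¹ := by
    have e : (A.n w₀)⁻¹ * A.n w₀ = 1 := inv_mul_cancel _
    rw [ec, mul_assoc] at e
    exact eq_inv_of_mul_eq_one_right e
  rw [hnn] at h1
  have h2 := A.H_conj_U _ (inv_mem (mul_mem hc ha)) _ h1
  convert h2 using 1
  group

theorem sW_mem (i : Fin 2) : sW φ i ∈ (Md hφ hK).tw.S := ⟨i, rfl⟩

theorem sW_cen (i : Fin 2) : sW φ i * (Md hφ hK).w0 = (Md hφ hK).w0 * sW φ i := w0_comm' hφ hK i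

theorem gens_rot : (F4.gens 0 * F4.gens 1) ^ 8 = 1 ∧ ∀ i : Fin 8, ∀ j : Fin 2,
    (F4.gens 0 * F4.gens 1) ^ i.val * F4.gens 0 ^ j.val = 1 → i.val = 0 ∧ j.val = 0 := by
  decide +kernel

/-- The rank one subgroups. -/
noncomputable abbrev Lsub (i : Fin 2) : Subgroup (GT hφ hK) := rk (Md hφ hK).tw (sW φ i)

theorem x0_mem_Lsub (t : K) : x0 hφ hK t ∈ Lsub hφ hK 0 := Uw_le_rk (x0_mem hφ hK t)

theorem x1_mem_Lsub (t c : K) : x1 hφ hK t c ∈ Lsub hφ hK 1 := Uw_le_rk (x1_mem hφ hK t c)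

theorem y0_opp (t : K) : ((Md hφ hK).tw.n (sW φ 0))⁻¹ * y0 hφ hK t * (Md hφ hK).tw.n (sW φ 0)
    ∈ (Md hφ hK).tw.Uw (sW φ 0) := by
  haveI := finiteGT hφ hK
  set A := (Md hφ hK).tw
  have e1 : nP hφ hK = Nd hφ hK 1 := by rw [nP, Nd, inv_one]
  obtain ⟨h, hh, e⟩ := Nd_mem hφ hK (d := (1 : K)) one_ne_zero
  rw [← nP_conj_x0 hφ hK t, e1, e, show (A.n (sW φ 0))⁻¹ *
      (h * A.n (sW φ 0) * x0 hφ hK t * (h * A.n (sW φ 0))⁻¹) * A.n (sW φ 0) =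
    ((A.n (sW φ 0))⁻¹ * h * A.n (sW φ 0)) * x0 hφ hK t *
      ((A.n (sW φ 0))⁻¹ * h * A.n (sW φ 0))⁻¹ by group]
  exact (sbase hφ hK).H_conj_Uw (sW_mem hφ hK 0) (A.n_conj_H' _ hh) (x0_mem hφ hK t)

theorem y1_opp (t c : K) : ((Md hφ hK).tw.n (sW φ 1))⁻¹ * y1 hφ hK t c * (Md hφ hK).tw.n (sW φ 1)
    ∈ (Md hφ hK).tw.Uw (sW φ 1) := by
  haveI := finiteGT hφ hK
  set A := (Md hφ hK).tw
  have hx := w0_conj_y1 hφ hK t c
  obtain ⟨x', hx', e⟩ := exists_n_conj (sbase hφ hK) (sW_cen hφ hK 1) (sW_mem hφ hK 1)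
    (w0_sq hφ hK) hx
  rw [show (A.n (Md hφ hK).w0)⁻¹ * (A.n (Md hφ hK).w0 * y1 hφ hK t c * (A.n (Md hφ hK).w0)⁻¹) *
    A.n (Md hφ hK).w0 = y1 hφ hK t c by group] at e
  rw [e, show (A.n (sW φ 1))⁻¹ * (A.n (sW φ 1) * x' * (A.n (sW φ 1))⁻¹) * A.n (sW φ 1) = x' by group]
  exact hx'

theorem y0_mem_Lsub (t : K) : y0 hφ hK t ∈ Lsub hφ hK 0 := by
  have h := n_conj_mem_rk (y0_opp hφ hK t)
  convert h using 1
  group

theorem y1_mem_Lsub (t c : K) : y1 hφ hK t c ∈ Lsub hφ hK 1 := by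
  have h := n_conj_mem_rk (y1_opp hφ hK t c)
  convert h using 1
  group

theorem dih : Dih (Md hφ hK).tw (Md hφ hK).w0 (sW φ) (Lsub hφ hK) := by
  haveI := finiteGT hφ hK
  refine ⟨sbase hφ hK, rfl, sW_cen hφ hK, gens_rot.1, fun i j hi hj h => ?_, H_comm hφ hK,
    fun i => Uw_le_rk, fun i hs => rk_le_levi (sbase hφ hK) (sW_cen hφ hK i) hs, fun i => ?_⟩
  · exact gens_rot.2 ⟨i, hi⟩ ⟨j, hj⟩ h
  rcases (show ∀ i : Fin 2, i = 0 ∨ i = 1 by decide) i with rfl | rfl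
  · have e1 : nP hφ hK = Nd hφ hK 1 := by rw [nP, Nd, inv_one]
    obtain ⟨h, hh, e⟩ := Nd_mem hφ hK (d := (1 : K)) one_ne_zero
    refine ⟨h, hh, ?_⟩
    rw [← e, ← e1, nP]
    exact mul_mem (mul_mem (x0_mem_Lsub hφ hK 1) (y0_mem_Lsub hφ hK 1)) (x0_mem_Lsub hφ hK 1)
  · obtain ⟨h, hh, e⟩ := n1_mem hφ hK
    refine ⟨h, hh, ?_⟩
    rw [← e, n1]
    exact mul_mem (mul_mem (x1_mem_Lsub hφ hK 1 0) (y1_mem_Lsub hφ hK 0 1)) (x1_mem_Lsub hφ hK 1 1)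

end Cfsg.Agent.H40.Ree
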