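import Cfsg.Agent.H40.Ree.Rep

/-!
`²F₄(q)` has no stem extensions with kernel of odd prime order.
-/

set_option autoImplicit false
set_option maxRecDepth 100000

namespace Cfsg.Agent.H40.Ree

open Cfsg.Lie Cfsg.Agent.H37 Cfsg.Agent.H37.RootSys Cfsg.Agent.H37.Twist Cfsg.Agent.H56.ChevAut
open Cfsg.Agent.H56.TwAut Cfsg.Agent.H56.TwAut.F4 Cfsg.Agent.H37.Twist.F4
open Cfsg.Agent.H13.Split Cfsg.Agent.H74.RootExt Cfsg.Agent.Linear.Mult

universe u

variable {K : Type u} [Field K] [Fintype K] [CharP K 2] {φ : K →+* K} {m : ℕ}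
  (hφ : ∀ t, φ t = t ^ 2 ^ m) (hK : Fintype.card K = 2 ^ (2 * m + 1))

theorem killed_H {l : ℕ} (hl2 : l ≠ 2) {X : Type u} [Group X] [Finite X]
    (E : LExt l X (GT hφ hK)) : E.Killed (Md hφ hK).tw.H := by
  haveI := finiteGT hφ hK
  obtain ⟨g, hg⟩ := IsCyclic.exists_generator (α := Kˣ)
  set A := hel hφ hK (g, 1) with hA
  set B := hel hφ hK (1, g) with hB
  have hAi : hel hφ hK (g⁻¹, 1) = A⁻¹ := by
    refine eq_inv_of_mul_eq_one_left ?_
    rw [hA, ← hel_mul]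
    refine lift_injective _ ?_
    rw [lift_hel]
    show tG (QD K) (hc m (g⁻¹ * g) (1 * 1)) = 1
    rw [inv_mul_cancel, one_mul, show hc m (1 : Kˣ) 1 = 1 by
      funext i; exact (show ∀ j : Fin 4, (![1 ^ 2 ^ m, 1 ^ 2 ^ m, 1, 1] : Fin 4 → Kˣ) j = 1 by
        intro j; fin_cases j <;> simp) i, map_one]
  have hz : E.cm A B = 1 := by
    set z := E.cm A B
    have hz1 : E.proj z = 1 := by
      rw [E.proj_cm, commutatorElement_eq_one_iff_commute.2 (hel_comm hφ hK _ _)]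
    obtain ⟨y, hy⟩ := E.surj (nP hφ hK)
    have h1 := E.conj_cm hy A B
    rw [← E.ker_central hz1 y |>.symm, mul_inv_cancel_right, nP_conj_hel, nP_conj_hel, one_mul,
      hAi, inv_one, mul_one, show hel hφ hK (g, g) = A * B by rw [hA, hB, ← hel_mul]; simp,
      E.cm_mul_right_of_commute (by exact ((hel_comm hφ hK _ _).inv_left)),
      E.cm_eq_one_of_commute (a := (E.lift A)⁻¹) (b := E.lift A) (by rw [map_inv, E.proj_lift])
        (E.proj_lift A) (Commute.refl _).inv_left, one_mul] at h1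
    have h2 : z * E.cm A⁻¹ B = 1 := by
      have := E.cm_mul_left_of_commute (g := A⁻¹) (g' := A) (h := B) (hel_comm hφ hK _ _)
      rwa [inv_mul_cancel, E.cm_one_left, eq_comm] at this
    rw [← h1] at h2
    exact E.eq_one_of_pow hz1 ((Nat.coprime_primes Nat.prime_two E.hl).2 (Ne.symm hl2))
      (by rw [pow_two]; exact h2)
  have key : ∀ x ∈ E.pre (Md hφ hK).tw.H, ∃ i j : ℤ, ∃ c, E.proj c = 1 ∧
      x = E.lift A ^ i * E.lift B ^ j * c := by
    intro x hx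
    obtain ⟨⟨a, b⟩, e⟩ := exists_hel hφ hK hx
    obtain ⟨i, rfl⟩ := Subgroup.mem_zpowers_iff.1 (hg a)
    obtain ⟨j, rfl⟩ := Subgroup.mem_zpowers_iff.1 (hg b)
    refine ⟨i, j, (E.lift A ^ i * E.lift B ^ j)⁻¹ * x, ?_, (mul_inv_cancel_left _ _).symm⟩
    let f : Kˣ × Kˣ →* GT hφ hK := MonoidHom.mk' (hel hφ hK) (hel_mul hφ hK)
    rw [map_mul, map_inv, map_mul, map_zpow, map_zpow, E.proj_lift, E.proj_lift, e, inv_mul_eq_one]
    show f (g, 1) ^ i * f (1, g) ^ j = f (g ^ i, g ^ j)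
    rw [← map_zpow, ← map_zpow, ← map_mul]
    simp
  have hcom : Commute (E.lift A) (E.lift B) :=
    E.commute_of_cm hz (E.proj_lift A) (E.proj_lift B)
  intro z hz' _
  have : ⁅E.pre (Md hφ hK).tw.H, E.pre (Md hφ hK).tw.H⁆ = ⊥ := by
    rw [eq_bot_iff, Subgroup.commutator_le]
    intro x hx x' hx'
    obtain ⟨i, j, c, hc, rfl⟩ := key x hx
    obtain ⟨i', j', c', hc', rfl⟩ := key x' hx'
    rw [Subgroup.mem_bot, commutatorElement_eq_one_iff_commute]
    have hcc : ∀ y, Commute c y := fun y => (E.ker_central hc y).symm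
    have hcc' : ∀ y, Commute y c' := fun y => E.ker_central hc' y
    exact ((Commute.mul_left (Commute.mul_right ((Commute.refl _).zpow_zpow _ _) (hcom.zpow_zpow _ _))
      (Commute.mul_right (hcom.symm.zpow_zpow _ _) ((Commute.refl _).zpow_zpow _ _))).mul_left
        (hcc _)).mul_right (hcc' _)
  rw [this] at hz'
  exact Subgroup.mem_bot.1 hz'

theorem noStem_odd (hm : 1 ≤ m) {l : ℕ} (hl : l.Prime) (hl2 : l ≠ 2) : NoStem l (GT hφ hK) := by
  haveI := finiteGT hφ hK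
  haveI := Fact.mk hl
  set q := 2 ^ (2 * m + 1) with hq
  have hq2 : 2 ≤ q := hq ▸ (show 2 ^ 1 ≤ 2 ^ (2 * m + 1) from Nat.pow_le_pow_right two_pos (by omega))
  have hH : Nat.card (Md hφ hK).tw.H = (q - 1) ^ 2 := card_tw_H hφ hK
  by_cases hd : l ∣ q - 1
  · refine noStem_of_killed hl fun Γ _ _ E => ⟨_, killed_H hφ hK hl2 E, fun h => ?_⟩
    have hG : Nat.card (GT hφ hK) = (q - 1) ^ 2 *
        (q ^ 12 * (q ^ 3 + 1) * ((q + 1) * (q ^ 2 + 1)) * (q ^ 6 + 1)) := by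
      show Nat.card ↥(twistedF4 K (2 ^ m)) = _
      rw [card_group hφ hK, ← hq]
      obtain ⟨r, hr⟩ : ∃ r, q = r + 1 := ⟨q - 1, by omega⟩
      rw [hr, Nat.add_sub_cancel, show (r + 1) ^ 4 - 1 = r * ((r + 1 + 1) * ((r + 1) ^ 2 + 1)) from
        Nat.sub_eq_of_eq_add (by ring)]
      ring
    have hc := ((Md hφ hK).tw.H).card_mul_index
    rw [hH, hG] at hc
    rw [Nat.eq_of_mul_eq_mul_left (pow_pos (by omega) 2) hc] at h
    have hq1 : (q : ZMod l) = 1 := by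
      have : ((q - 1 : ℕ) : ZMod l) = 0 := (ZMod.natCast_eq_zero_iff _ _).2 hd
      rwa [Nat.cast_sub (by omega), Nat.cast_one, sub_eq_zero] at this
    have h0 := (ZMod.natCast_eq_zero_iff _ _).2 h
    push_cast [hq1] at h0
    norm_num at h0
    have h16 : ((2 ^ 4 : ℕ) : ZMod l) = 0 := by push_cast; linear_combination h0
    exact hl2 ((Nat.prime_dvd_prime_iff_eq hl Nat.prime_two).1
      (hl.dvd_of_dvd_pow ((ZMod.natCast_eq_zero_iff _ _).1 h16)))
  · intro Γ _ _ σ hσ hcard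
    let E : LExt l Γ (GT hφ hK) := ⟨⟨σ, hσ.1, hσ.2.1⟩, hl, hcard⟩
    have hK' : ∀ i, E.Killed (Lsub hφ hK i) ∧ AbCoprime l (Lsub hφ hK i) := by
      intro i
      rcases (show ∀ i : Fin 2, i = 0 ∨ i = 1 by decide) i with rfl | rfl
      exacts [killed_L0 hφ hK hm hl hl2 E, killed_L1 hφ hK hm hl hl2 E]
    have h := ker_eq_one E (dih hφ hK) hl2
      (by rw [hH]; exact fun h => hd (hl.dvd_of_dvd_pow h))
      (fun i => (hK' i).1) (fun i => (hK' i).2) hσ.2.2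
    have : Nat.card σ.ker = 1 := by
      rw [show σ.ker = ⊥ from (Subgroup.eq_bot_iff_forall _).2 fun z hz => h z hz, Subgroup.card_bot]
    exact hl.one_lt.ne' (hcard ▸ this)

end Cfsg.Agent.H40.Ree
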