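import Cfsg.Agent.H37.Twist.F4

/-!
The checks on the eight rays of positive roots of `²F₄(q)`.
-/

set_option autoImplicit false
set_option Elab.async false
set_option maxRecDepth 100000

namespace Cfsg.Agent.H40.Ree

open Cfsg.Lie Cfsg.Agent.H37 Cfsg.Agent.H37.RootSys Cfsg.Agent.H37.Twist Cfsg.Agent.H37.Twist.F4

/-! ### Lists of roots and their checks -/

/-- The positive roots of one ray, in increasing order. -/
def ray : Fin 8 → List ℕ :=
  ![[24, 33], [26, 34, 36, 42], [38, 43], [29, 41, 44, 47], [39, 45], [31, 35, 40, 46], [32, 37],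
    [25, 27, 28, 30]]

/-- The positive roots of the rays from `a` on. -/
def tail (a : ℕ) : List ℕ :=
  (List.range 48).filter fun r => (List.finRange 8).any fun j => decide (a ≤ j.val) && (ray j).contains r

/-- A linear code of the coordinates of the roots. -/
def codes : List ℤ :=
  [-9026, -4930, -4674, -4658, -4642, -4386, -290, -4657, -4641, -4385, -289, -4369, -273, -17, -1,
    -4640, -4384, -288, -4368, -272, -16, -4352, -256, -4096, 4096, 256, 4352, 16, 272, 4368, 288,
    4384, 4640, 1, 17, 273, 4369, 289, 4385, 4641, 4657, 290, 4386, 4642, 4658, 4674, 4930, 9026]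

/-- The code of a root. -/
def code (r : ℕ) : ℤ := codes.getD r 0

theorem code_ok : ∀ r : Fin 48, code r.val = Chevalley.F4.tab.cf chevF4 r.val 0 +
    16 * Chevalley.F4.tab.cf chevF4 r.val 1 + 256 * Chevalley.F4.tab.cf chevF4 r.val 2 +
    4096 * Chevalley.F4.tab.cf chevF4 r.val 3 := by decide +kernel

theorem cf_bound : ∀ r : Fin 48, (∀ i : Fin 4, Chevalley.F4.tab.cf chevF4 r.val i.val ≤ 4) ∧
    (24 ≤ r.val → ∃ i : Fin 4, 1 ≤ Chevalley.F4.tab.cf chevF4 r.val i.val) := by decide +kernel

/-- The combinations of a root in `R` and a root in `S` lie in `T`. -/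
def combB (R S T : List ℕ) : Bool :=
  R.all fun r => decide (r < 48) && decide (24 ≤ r) && S.all fun s =>
    decide (s < 48) && decide (24 ≤ s) && (r == s ||
    (let cr := code r; let cs := code s
     (List.range 48).all fun k => T.contains k ||
      (let ck := code k
       [(1 : ℤ), 2, 3, 4].all fun a => [(1 : ℤ), 2, 3, 4].all fun b =>
        !decide (ck = a * cr + b * cs))))

/-- A faster form of `combB`, given the codes of the roots outside the target. -/
def combN (R S : List ℕ) (N : List ℤ) : Bool :=
  R.all fun r => decide (r < 48) && decide (24 ≤ r) && S.all fun s =>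
    decide (s < 48) && decide (24 ≤ s) && (r == s ||
      [(1 : ℤ), 2, 3, 4].all fun a => [(1 : ℤ), 2, 3, 4].all fun b => !N.contains (a * code r + b * code s))

theorem combB_of_combN {R S T : List ℕ} {N : List ℤ}
    (hN : ((List.range 48).filter fun k => !T.contains k).map code = N) (h : combN R S N = true) :
    combB R S T = true := by
  subst hN
  simp only [combN, List.all_eq_true, Bool.and_eq_true, Bool.or_eq_true, decide_eq_true_eq] at h
  simp only [combB, List.all_eq_true, Bool.and_eq_true, Bool.or_eq_true, decide_eq_true_eq]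
  intro r hr
  refine ⟨(h r hr).1, fun s hs => ⟨((h r hr).2 s hs).1, ?_⟩⟩
  rcases ((h r hr).2 s hs).2 with e | e
  · exact Or.inl e
  · refine Or.inr fun k hk => ?_
    by_cases hT : T.contains k = true
    · exact Or.inl hT
    refine Or.inr fun a ha b hb => ?_
    have h2 := e a ha b hb
    simp only [Bool.not_eq_true', decide_eq_false_iff_not]
    intro hck
    simp only [Bool.not_eq_true', List.contains_eq_mem, decide_eq_false_iff_not, List.mem_map,
      List.mem_filter] at h2
    exact h2 ⟨k, ⟨hk, by simpa [List.contains_eq_mem] using hT⟩, hck⟩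

/-- The odd terms of the commutators of a root in `R` and a root in `S` lie in `T`. -/
def comm2B (R S T : List ℕ) : Bool :=
  R.all fun r => decide (r < 48) && S.all fun s => decide (s < 48) && (r == s ||
    (!(s == chevF4.neg r) && (chevF4.commTerms r s).all fun c =>
      decide (c.2.1 % 2 = 0) || T.contains c.1))

/-- The list is stable under the graph symmetry. -/
def rhB (L : List ℕ) : Bool := L.all fun r => decide (r < 48) && L.contains (F4.tables.rh r)

/-- The coefficients `(u, v)` of twice the exponent `u + v e` by which `s`'s torus moves `r`. -/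
def form (r s : ℕ) : ℤ × ℤ :=
  let c := fun k x => chevF4.cartan k x
  ((c 0 r * c 1 s - c 1 r * c 0 s) + 2 * (c 3 r * c 2 s - c 2 r * c 3 s),
    2 * (c 0 r * c 2 s + c 3 r * c 1 s - c 1 r * c 3 s - c 2 r * c 0 s))

/-- The torus of `s` fixes the roots of `L`. -/
def fixB (L : List ℕ) (s : ℕ) : Bool := L.all fun r => decide (r < 48) && decide (form r s = (0, 0))

/-- The torus of `s` moves the roots of `L`, for every field. -/
def sepB (L : List ℕ) (s : ℕ) : Bool := L.all fun r => decide (r < 48) &&
  (let p := form r s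
   !decide (p = (0, 0)) && decide (-32 < p.1 ∧ p.1 < 32 ∧ -32 < p.2 ∧ p.2 < 32) &&
    [(2 : ℤ), 4, 8, 16].all fun e => decide ((p.1 + p.2 * e) % (2 * e * e - 1) ≠ 0))

/-- The first root of a ray. -/
def top (a : Fin 8) : ℕ := (ray a).headD 0

theorem rays_closed : ∀ a : Fin 8, combB (ray a) (ray a) (ray a) = true ∧ rhB (ray a) = true ∧
    (ray a).Pairwise (· < ·) := by decide +kernel

/-- The rays with their numbers. -/
def rayPairs : List (ℕ × List ℕ) := [(0, [24, 33]), (1, [26, 34, 36, 42]), (2, [38, 43]), (3, [29, 41, 44, 47]), (4, [39, 45]), (5, [31, 35, 40, 46]), (6, [32, 37]), (7, [25, 27, 28, 30])]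

theorem rayPairs_eq : (List.finRange 8).map (fun j : Fin 8 => (j.val, ray j)) = rayPairs := by
  decide +kernel

theorem tail_eq_fast (a : ℕ) : tail a =
    (List.range 48).filter fun r => rayPairs.any fun p => decide (a ≤ p.1) && p.2.contains r := by
  simp only [tail, ← rayPairs_eq, List.any_map, Function.comp_def]

theorem tail_val_0 : tail 0 = [24, 25, 26, 27, 28, 29, 30, 31, 32, 33, 34, 35, 36, 37, 38, 39, 40, 41, 42, 43, 44, 45, 46, 47] := by
  rw [tail_eq_fast]
  decide +kernel

theorem tail_val_1 : tail 1 = [25, 26, 27, 28, 29, 30, 31, 32, 34, 35, 36, 37, 38, 39, 40, 41, 42, 43, 44, 45, 46, 47] := by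
  rw [tail_eq_fast]
  decide +kernel

theorem tail_val_2 : tail 2 = [25, 27, 28, 29, 30, 31, 32, 35, 37, 38, 39, 40, 41, 43, 44, 45, 46, 47] := by
  rw [tail_eq_fast]
  decide +kernel

theorem tail_val_3 : tail 3 = [25, 27, 28, 29, 30, 31, 32, 35, 37, 39, 40, 41, 44, 45, 46, 47] := by
  rw [tail_eq_fast]
  decide +kernel

theorem tail_val_4 : tail 4 = [25, 27, 28, 30, 31, 32, 35, 37, 39, 40, 45, 46] := by
  rw [tail_eq_fast]
  decide +kernel

theorem tail_val_5 : tail 5 = [25, 27, 28, 30, 31, 32, 35, 37, 40, 46] := by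
  rw [tail_eq_fast]
  decide +kernel

theorem tail_val_6 : tail 6 = [25, 27, 28, 30, 32, 37] := by
  rw [tail_eq_fast]
  decide +kernel

theorem tail_val_7 : tail 7 = [25, 27, 28, 30] := by
  rw [tail_eq_fast]
  decide +kernel

theorem tail_val_8 : tail 8 = [] := by
  rw [tail_eq_fast]
  decide +kernel

theorem tails_closed_0 : combB (tail 0) (tail 0) (tail 0) = true ∧ rhB (tail 0) = true := by
  rw [tail_val_0]
  exact ⟨combB_of_combN (N := [-9026, -4930, -4674, -4658, -4642, -4386, -290, -4657, -4641, -4385, -289, -4369, -273, -17, -1, -4640, -4384, -288, -4368, -272, -16, -4352, -256, -4096])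
    (by decide +kernel) (by decide +kernel), by decide +kernel⟩

theorem tails_closed_1 : combB (tail 1) (tail 1) (tail 1) = true ∧ rhB (tail 1) = true := by
  rw [tail_val_1]
  exact ⟨combB_of_combN (N := [-9026, -4930, -4674, -4658, -4642, -4386, -290, -4657, -4641, -4385, -289, -4369, -273, -17, -1, -4640, -4384, -288, -4368, -272, -16, -4352, -256, -4096, 4096, 1])
    (by decide +kernel) (by decide +kernel), by decide +kernel⟩

theorem tails_closed_2 : combB (tail 2) (tail 2) (tail 2) = true ∧ rhB (tail 2) = true := by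
  rw [tail_val_2]
  exact ⟨combB_of_combN (N := [-9026, -4930, -4674, -4658, -4642, -4386, -290, -4657, -4641, -4385, -289, -4369, -273, -17, -1, -4640, -4384, -288, -4368, -272, -16, -4352, -256, -4096, 4096, 4352, 1, 17, 4369, 4386])
    (by decide +kernel) (by decide +kernel), by decide +kernel⟩

theorem tails_closed_3 : combB (tail 3) (tail 3) (tail 3) = true ∧ rhB (tail 3) = true := by
  rw [tail_val_3]
  exact ⟨combB_of_combN (N := [-9026, -4930, -4674, -4658, -4642, -4386, -290, -4657, -4641, -4385, -289, -4369, -273, -17, -1, -4640, -4384, -288, -4368, -272, -16, -4352, -256, -4096, 4096, 4352, 1, 17, 4369, 4385, 4386, 4642])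
    (by decide +kernel) (by decide +kernel), by decide +kernel⟩

theorem tails_closed_4 : combB (tail 4) (tail 4) (tail 4) = true ∧ rhB (tail 4) = true := by
  rw [tail_val_4]
  exact ⟨combB_of_combN (N := [-9026, -4930, -4674, -4658, -4642, -4386, -290, -4657, -4641, -4385, -289, -4369, -273, -17, -1, -4640, -4384, -288, -4368, -272, -16, -4352, -256, -4096, 4096, 4352, 4368, 1, 17, 4369, 4385, 290, 4386, 4642, 4658, 9026])
    (by decide +kernel) (by decide +kernel), by decide +kernel⟩

theorem tails_closed_5 : combB (tail 5) (tail 5) (tail 5) = true ∧ rhB (tail 5) = true := by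
  rw [tail_val_5]
  exact ⟨combB_of_combN (N := [-9026, -4930, -4674, -4658, -4642, -4386, -290, -4657, -4641, -4385, -289, -4369, -273, -17, -1, -4640, -4384, -288, -4368, -272, -16, -4352, -256, -4096, 4096, 4352, 4368, 1, 17, 4369, 4385, 4641, 290, 4386, 4642, 4658, 4674, 9026])
    (by decide +kernel) (by decide +kernel), by decide +kernel⟩

theorem tails_closed_6 : combB (tail 6) (tail 6) (tail 6) = true ∧ rhB (tail 6) = true := by
  rw [tail_val_6]
  exact ⟨combB_of_combN (N := [-9026, -4930, -4674, -4658, -4642, -4386, -290, -4657, -4641, -4385, -289, -4369, -273, -17, -1, -4640, -4384, -288, -4368, -272, -16, -4352, -256, -4096, 4096, 4352, 4368, 4384, 1, 17, 273, 4369, 4385, 4641, 4657, 290, 4386, 4642, 4658, 4674, 4930, 9026])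
    (by decide +kernel) (by decide +kernel), by decide +kernel⟩

theorem tails_closed_7 : combB (tail 7) (tail 7) (tail 7) = true ∧ rhB (tail 7) = true := by
  rw [tail_val_7]
  exact ⟨combB_of_combN (N := [-9026, -4930, -4674, -4658, -4642, -4386, -290, -4657, -4641, -4385, -289, -4369, -273, -17, -1, -4640, -4384, -288, -4368, -272, -16, -4352, -256, -4096, 4096, 4352, 4368, 4384, 4640, 1, 17, 273, 4369, 289, 4385, 4641, 4657, 290, 4386, 4642, 4658, 4674, 4930, 9026])
    (by decide +kernel) (by decide +kernel), by decide +kernel⟩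

theorem tails_closed_8 : combB (tail 8) (tail 8) (tail 8) = true ∧ rhB (tail 8) = true := by
  rw [tail_val_8]
  exact ⟨combB_of_combN (N := [-9026, -4930, -4674, -4658, -4642, -4386, -290, -4657, -4641, -4385, -289, -4369, -273, -17, -1, -4640, -4384, -288, -4368, -272, -16, -4352, -256, -4096, 4096, 256, 4352, 16, 272, 4368, 288, 4384, 4640, 1, 17, 273, 4369, 289, 4385, 4641, 4657, 290, 4386, 4642, 4658, 4674, 4930, 9026])
    (by decide +kernel) (by decide +kernel), by decide +kernel⟩

theorem ray_tail_0 : combB (ray 0) (tail 1) (tail 1) = true := by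
  rw [tail_val_1]
  exact combB_of_combN (N := [-9026, -4930, -4674, -4658, -4642, -4386, -290, -4657, -4641, -4385, -289, -4369, -273, -17, -1, -4640, -4384, -288, -4368, -272, -16, -4352, -256, -4096, 4096, 1])
    (by decide +kernel) (by decide +kernel)

theorem ray_tail_1 : combB (ray 1) (tail 2) (tail 2) = true := by
  rw [tail_val_2]
  exact combB_of_combN (N := [-9026, -4930, -4674, -4658, -4642, -4386, -290, -4657, -4641, -4385, -289, -4369, -273, -17, -1, -4640, -4384, -288, -4368, -272, -16, -4352, -256, -4096, 4096, 4352, 1, 17, 4369, 4386])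
    (by decide +kernel) (by decide +kernel)

theorem ray_tail_2 : combB (ray 2) (tail 3) (tail 3) = true := by
  rw [tail_val_3]
  exact combB_of_combN (N := [-9026, -4930, -4674, -4658, -4642, -4386, -290, -4657, -4641, -4385, -289, -4369, -273, -17, -1, -4640, -4384, -288, -4368, -272, -16, -4352, -256, -4096, 4096, 4352, 1, 17, 4369, 4385, 4386, 4642])
    (by decide +kernel) (by decide +kernel)

theorem ray_tail_3 : combB (ray 3) (tail 4) (tail 4) = true := by
  rw [tail_val_4]
  exact combB_of_combN (N := [-9026, -4930, -4674, -4658, -4642, -4386, -290, -4657, -4641, -4385, -289, -4369, -273, -17, -1, -4640, -4384, -288, -4368, -272, -16, -4352, -256, -4096, 4096, 4352, 4368, 1, 17, 4369, 4385, 290, 4386, 4642, 4658, 9026])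
    (by decide +kernel) (by decide +kernel)

theorem ray_tail_4 : combB (ray 4) (tail 5) (tail 5) = true := by
  rw [tail_val_5]
  exact combB_of_combN (N := [-9026, -4930, -4674, -4658, -4642, -4386, -290, -4657, -4641, -4385, -289, -4369, -273, -17, -1, -4640, -4384, -288, -4368, -272, -16, -4352, -256, -4096, 4096, 4352, 4368, 1, 17, 4369, 4385, 4641, 290, 4386, 4642, 4658, 4674, 9026])
    (by decide +kernel) (by decide +kernel)

theorem ray_tail_5 : combB (ray 5) (tail 6) (tail 6) = true := by
  rw [tail_val_6]
  exact combB_of_combN (N := [-9026, -4930, -4674, -4658, -4642, -4386, -290, -4657, -4641, -4385, -289, -4369, -273, -17, -1, -4640, -4384, -288, -4368, -272, -16, -4352, -256, -4096, 4096, 4352, 4368, 4384, 1, 17, 273, 4369, 4385, 4641, 4657, 290, 4386, 4642, 4658, 4674, 4930, 9026])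
    (by decide +kernel) (by decide +kernel)

theorem ray_tail_6 : combB (ray 6) (tail 7) (tail 7) = true := by
  rw [tail_val_7]
  exact combB_of_combN (N := [-9026, -4930, -4674, -4658, -4642, -4386, -290, -4657, -4641, -4385, -289, -4369, -273, -17, -1, -4640, -4384, -288, -4368, -272, -16, -4352, -256, -4096, 4096, 4352, 4368, 4384, 4640, 1, 17, 273, 4369, 289, 4385, 4641, 4657, 290, 4386, 4642, 4658, 4674, 4930, 9026])
    (by decide +kernel) (by decide +kernel)

theorem ray_tail_7 : combB (ray 7) (tail 8) (tail 8) = true := by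
  rw [tail_val_8]
  exact combB_of_combN (N := [-9026, -4930, -4674, -4658, -4642, -4386, -290, -4657, -4641, -4385, -289, -4369, -273, -17, -1, -4640, -4384, -288, -4368, -272, -16, -4352, -256, -4096, 4096, 256, 4352, 16, 272, 4368, 288, 4384, 4640, 1, 17, 273, 4369, 289, 4385, 4641, 4657, 290, 4386, 4642, 4658, 4674, 4930, 9026])
    (by decide +kernel) (by decide +kernel)

theorem tails_closed : ∀ a : Fin 9, combB (tail a.val) (tail a.val) (tail a.val) = true ∧
    rhB (tail a.val) = true := by
  intro a
  fin_cases a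
  exacts [tails_closed_0, tails_closed_1, tails_closed_2, tails_closed_3, tails_closed_4, tails_closed_5, tails_closed_6, tails_closed_7, tails_closed_8]

theorem ray_tail : ∀ a : Fin 8, combB (ray a) (tail (a.val + 1)) (tail (a.val + 1)) = true := by
  intro a
  fin_cases a
  exacts [ray_tail_0, ray_tail_1, ray_tail_2, ray_tail_3, ray_tail_4, ray_tail_5, ray_tail_6, ray_tail_7]

theorem tail_step : ∀ a : Fin 8, (∀ r ∈ tail a.val, r ∈ ray a ∨ r ∈ tail (a.val + 1)) ∧
    (∀ r ∈ ray a, r ∈ tail a.val ∧ r ∉ tail (a.val + 1)) ∧ ∀ r ∈ tail (a.val + 1), r ∈ tail a.val := by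
  decide +kernel

theorem tail_ends : (tail 0).toFinset = posSet chevF4 ∧ tail 8 = [] := by decide +kernel

theorem fix_ok : (∀ a : Fin 8, fixB (ray a) (top a) = true) ∧ fixB [14, 23] (top 0) = true := by
  decide +kernel

theorem sep_ok : ∀ a b : Fin 8, a = b ∨ sepB (ray b) (top a) = true := by decide +kernel

end Cfsg.Agent.H40.Ree
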