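import Cfsg.Agent.H40.Ree.Model
import Cfsg.Agent.H40.Ree.RayData
import Cfsg.Agent.H51.Supports

/-!
The eight rays of positive root groups of `²F₄(q)`: the fixed elements over closed lists of roots,
their splittings and the torus elements centralising one ray and moving the others.
-/

set_option autoImplicit false
set_option maxRecDepth 100000

namespace Cfsg.Agent.H40.Ree

open Cfsg.Lie Cfsg.Agent.H37 Cfsg.Agent.H37.RootSys Cfsg.Agent.H37.Twist Cfsg.Agent.H56.ChevAut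
open Cfsg.Agent.H56.TwAut Cfsg.Agent.H56.TwAut.F4 Cfsg.Agent.H37.Twist.F4
open scoped commutatorElement

universe u

variable {K : Type u} [Field K] [Fintype K] [CharP K 2] {φ : K →+* K} {m : ℕ}

omit [Fintype K] [CharP K 2] in
theorem comb_mem {R S T : List ℕ} (h : combB R S T = true) {r s k : ℕ} (hr : r ∈ R) (hs : s ∈ S)
    (hne : r ≠ s) (hk : (QD K).sys.toUnip.T r s k) : k ∈ T := by
  simp only [combB, List.all_eq_true, Bool.and_eq_true, decide_eq_true_eq, Bool.or_eq_true,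
    beq_iff_eq, List.mem_range, List.contains_iff_mem, List.any_eq_true, Bool.not_eq_true',
    decide_eq_false_iff_not] at h
  obtain ⟨⟨hr1, hr2⟩, hall⟩ := h r hr
  obtain ⟨⟨hs1, hs2⟩, hall⟩ := hall s hs
  obtain ⟨hk1, a, b, ha, hb, e⟩ := (hk : Combo (QD K).K r s k)
  rcases hall.resolve_left hne k hk1 with h' | h'
  · exact h'
  · exfalso
    have e' : ∀ i < 4, Chevalley.F4.tab.cf chevF4 k i = a * Chevalley.F4.tab.cf chevF4 r i +
        b * Chevalley.F4.tab.cf chevF4 s i := e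
    have bd : ∀ {x y : ℕ} {c d : ℤ}, x < 48 → 24 ≤ x → y < 48 → 24 ≤ y → 0 ≤ d →
        (∀ i < 4, Chevalley.F4.tab.cf chevF4 k i = c * Chevalley.F4.tab.cf chevF4 x i +
          d * Chevalley.F4.tab.cf chevF4 y i) → c ≤ 4 := by
      intro x y c d hx hx' hy hy' hd e
      obtain ⟨i, hi⟩ := (cf_bound ⟨x, hx⟩).2 hx'
      have h4 := (cf_bound ⟨k, hk1⟩).1 i
      have := e i.val i.isLt
      have ny : 0 ≤ Chevalley.F4.tab.cf chevF4 y i.val := (QD K).K.cf_nonneg y hy hy' i.val i.isLt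
      have n2 := mul_nonneg hd ny
      simp only at h4 hi
      nlinarith
    have ha4 : (a : ℤ) ≤ 4 := bd hr1 hr2 hs1 hs2 (by positivity) e'
    have hb4 : (b : ℤ) ≤ 4 := bd hs1 hs2 hr1 hr2 (c := b) (d := a) (by positivity) fun i hi => by
      rw [e' i hi]; ring
    have memA : ∀ c : ℕ, 0 < c → (c : ℤ) ≤ 4 → (c : ℤ) ∈ [(1 : ℤ), 2, 3, 4] := by
      intro c h1 h2
      have : c ≤ 4 := by omega
      interval_cases c <;> simp
    apply h' a (memA a ha ha4) b (memA b hb hb4)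
    rw [code_ok ⟨k, hk1⟩, code_ok ⟨r, hr1⟩, code_ok ⟨s, hs1⟩]
    simp only [e' 0 (by omega), e' 1 (by omega), e' 2 (by omega), e' 3 (by omega)]
    ring

omit [Fintype K] [CharP K 2] in
theorem closed_of_comb {L : List ℕ} (h : combB L L L = true) :
    (QD K).sys.toUnip.Closed L.toFinset := by
  refine ⟨fun r hr => ?_, fun r hr s hs hne k hk => ?_⟩
  · rw [List.mem_toFinset] at hr
    simp only [combB, List.all_eq_true, Bool.and_eq_true, decide_eq_true_eq] at h
    exact (QD K).sys.P_eq ▸ mem_posSet.2 ⟨(h r hr).1.1, (h r hr).1.2⟩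
  · rw [List.mem_toFinset] at hr hs ⊢
    exact comb_mem h hr hs hne hk

omit [Fintype K] in
theorem comm2 {R S T : List ℕ} (h : comm2B R S T = true) {r s : ℕ} (hr : r ∈ R) (hs : s ∈ S)
    (t u : K) : ⁅(xe r t : ↥(chevF4.group K)), xe s u⁆ ∈ XS (QD K).sys.x (↑T.toFinset : Set ℕ) := by
  simp only [comm2B, List.all_eq_true, Bool.and_eq_true, decide_eq_true_eq, Bool.or_eq_true,
    beq_iff_eq, Bool.not_eq_true', beq_eq_false_iff_ne, List.contains_iff_mem] at h
  obtain ⟨hr', hall⟩ := h r hr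
  obtain ⟨hs', hall⟩ := hall s hs
  rcases hall with rfl | ⟨hneg, hterms⟩
  · rw [commutatorElement_eq_one_iff_commute.2 (show Commute (xe r t : ↥(chevF4.group K)) (xe r u) by
      show _ = _; rw [← xe_add hr', ← xe_add hr', add_comm])]
    exact one_mem _
  by_cases hrs : s = r
  · subst hrs
    rw [commutatorElement_eq_one_iff_commute.2 (show Commute (xe s t : ↥(chevF4.group K)) (xe s u) by
      show _ = _; rw [← xe_add hr', ← xe_add hr', add_comm])]
    exact one_mem _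
  set P := ((chevF4.commTerms r s).map fun c => (xe c.1 ((c.2.1 : K) * (-t) ^ c.2.2.1 * u ^ c.2.2.2) :
    ↥(chevF4.group K))).prod
  have e : xe s u * xe r t = xe r t * xe s u * P := Twist.xG_comm (Q := QD K) hr' hs' hrs hneg t u
  have hP : P ∈ XS (QD K).sys.x (↑T.toFinset : Set ℕ) := by
    refine Subgroup.list_prod_mem _ fun g hg => ?_
    obtain ⟨c, hc, rfl⟩ := List.mem_map.1 hg
    rcases hterms c hc with h2 | h2
    · rw [show ((c.2.1 : ℤ) : K) = 0 from
        (CharP.intCast_eq_zero_iff K 2 _).2 (Int.dvd_of_emod_eq_zero h2), zero_mul, zero_mul]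
      obtain ⟨hlt, -⟩ := ((QD K).K.commTerms_cf hc).1
      rw [xe_zero hlt]
      exact one_mem _
    · exact x_mem_XS (Finset.mem_coe.2 (List.mem_toFinset.2 h2)) _
  have e2 : ⁅(xe r t : ↥(chevF4.group K)), xe s u⁆ = xe r t * xe s u * (xe r t * xe s u * P)⁻¹ *
      1 := by
    rw [← e, commutatorElement_def]; group
  have hP' : P = (xe r t * xe s u)⁻¹ * (xe s u * xe r t) := by rw [e]; group
  have key : ⁅(xe r (-t) : ↥(chevF4.group K)), xe s (-u)⁆ = P⁻¹ := by
    have i1 : ∀ (r : ℕ), r < 48 → ∀ v : K, (xe r (-v) : ↥(chevF4.group K)) = (xe r v)⁻¹ := fun r hr v =>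
      eq_inv_of_mul_eq_one_left (by rw [← xe_add hr, neg_add_cancel, xe_zero hr])
    rw [hP', i1 r hr', i1 s hs', commutatorElement_def]
    group
  rw [show t = -t from (neg_eq t).symm, show u = -u from (neg_eq u).symm, key]
  exact inv_mem hP

section

variable (hφ : ∀ t, φ t = t ^ 2 ^ m) (hK : Fintype.card K = 2 ^ (2 * m + 1))

/-- The fixed elements over a list of roots. -/
noncomputable def Yl (L : List ℕ) : Subgroup (GT hφ hK) :=
  (XS (QD K).sys.x (↑L.toFinset : Set ℕ)).comap (liftHom (Md hφ hK))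

theorem mem_Yl {L : List ℕ} {g : GT hφ hK} :
    g ∈ Yl hφ hK L ↔ lift (Md hφ hK) g ∈ XS (QD K).sys.x (↑L.toFinset : Set ℕ) := Iff.rfl

theorem lift_comm (a b : GT hφ hK) :
    lift (Md hφ hK) ⁅a, b⁆ = ⁅lift (Md hφ hK) a, lift (Md hφ hK) b⁆ :=
  map_commutatorElement (liftHom (Md hφ hK)) a b

theorem mem_T_of_fixed {v : ↥(chevF4.group K)} (h : (endo φ).σ v = v) :
    ∃ g : GT hφ hK, lift (Md hφ hK) g = v :=
  ⟨(Md hφ hK).iso ⟨v, h⟩, lift_iso _ _⟩

theorem fixed_lift (g : GT hφ hK) : (endo φ).σ (lift (Md hφ hK) g) = lift (Md hφ hK) g :=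
  (Md hφ hK).le_fixed _ g.2

omit [Fintype K] [CharP K 2] in
theorem xprod_one (L : List ℕ) (hL : ∀ r ∈ L, r < 48) :
    xprod (QD K) L (fun _ => 0) = 1 := by
  refine List.prod_eq_one fun g hg => ?_
  obtain ⟨r, hr, rfl⟩ := List.mem_map.1 hg
  exact xe_zero (hL r hr)

theorem σ_XS {L : List ℕ} (h : rhB L = true) {v : ↥(chevF4.group K)}
    (hv : v ∈ XS (QD K).sys.x (↑L.toFinset : Set ℕ)) :
    (endo φ).σ v ∈ XS (QD K).sys.x (↑L.toFinset : Set ℕ) := by
  simp only [rhB, List.all_eq_true, Bool.and_eq_true, decide_eq_true_eq, List.contains_iff_mem] at h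
  induction hv using Subgroup.closure_induction with
  | mem x hx =>
    obtain ⟨r, hr, t, rfl⟩ := hx
    obtain ⟨hr', hrh⟩ := h r (List.mem_toFinset.1 hr)
    show (endo φ).σ (xe r t) ∈ _
    rw [σ_xe hr']
    exact x_mem_XS (Finset.mem_coe.2 (List.mem_toFinset.2 hrh)) _
  | one => rw [map_one]; exact one_mem _
  | mul x y _ _ hx hy => rw [map_mul]; exact mul_mem hx hy
  | inv x _ hx => rw [map_inv]; exact inv_mem hx

theorem H_conj_Yl {L : List ℕ} (hL : ∀ r ∈ L, r < 48) {h y : GT hφ hK}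
    (hh : h ∈ (Md hφ hK).tw.H) (hy : y ∈ Yl hφ hK L) : h * y * h⁻¹ ∈ Yl hφ hK L := by
  rw [mem_Yl, lift_mul, lift_mul, lift_inv]
  refine conj_mem_XS (fun r hr t => ?_) hy
  obtain ⟨t', e⟩ := (QD K).sys.h_conj _ ((mem_H (Md hφ hK)).1 hh) r (hL r (List.mem_toFinset.1 hr)) t
  rw [e]
  exact x_mem_XS hr t'

theorem Yl_inf {A B : List ℕ} (hA : combB A A A = true) (hB : combB B B B = true)
    (hd : A.toFinset ∩ B.toFinset = ∅) : Yl hφ hK A ⊓ Yl hφ hK B = ⊥ := by
  rw [eq_bot_iff]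
  rintro g ⟨ha, hb⟩
  have h := H51.XS_inter (QD K).sys.toUnip (closed_of_comb hA) (closed_of_comb hB) ha hb
  rw [hd, Finset.coe_empty, XS_empty, Subgroup.mem_bot] at h
  exact Subgroup.mem_bot.2 (lift_injective _ h)

theorem Yl_split {A B C : List ℕ} (hC : combB C C C = true) (hA : combB A A A = true)
    (hB : combB B B B = true) (hAs : rhB A = true) (hBs : rhB B = true)
    (hd : A.toFinset ∩ B.toFinset = ∅) (hu : ∀ r ∈ C, r ∈ A ∨ r ∈ B) {g : GT hφ hK}
    (hg : g ∈ Yl hφ hK C) : ∃ a ∈ Yl hφ hK A, ∃ b ∈ Yl hφ hK B, a * b = g := by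
  obtain ⟨p, hp, q, hq, e⟩ := (QD K).sys.toUnip.exists_split (closed_of_comb hC)
    (↑A.toFinset) (↑B.toFinset) (fun r hr => (hu r (List.mem_toFinset.1 hr)).imp
      List.mem_toFinset.2 List.mem_toFinset.2) hg
  replace e : lift (Md hφ hK) g = p * q := e
  have hσ := fixed_lift hφ hK g
  rw [e, map_mul] at hσ
  have hp' := σ_XS (φ := φ) hAs hp
  have hq' := σ_XS (φ := φ) hBs hq
  have e' : p⁻¹ * (endo φ).σ p = q * ((endo φ).σ q)⁻¹ := by
    rw [eq_mul_inv_iff_mul_eq, mul_assoc, inv_mul_eq_iff_eq_mul]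
    exact hσ
  have h := H51.XS_inter (QD K).sys.toUnip (closed_of_comb hA) (closed_of_comb hB)
    (mul_mem (inv_mem hp) hp') (by rw [e']; exact mul_mem hq (inv_mem hq'))
  rw [hd, Finset.coe_empty, XS_empty, Subgroup.mem_bot, inv_mul_eq_one] at h
  obtain ⟨a, ha⟩ := mem_T_of_fixed hφ hK h.symm
  refine ⟨a, by rw [mem_Yl, ha]; exact hp, a⁻¹ * g, ?_, mul_inv_cancel_left a g⟩
  rw [mem_Yl, lift_mul, lift_inv, ha, e, inv_mul_cancel_left]
  exact hq

theorem Yl_normal {A N : List ℕ} (h : combB A N N = true)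
    (hN : combB N N N = true) (hd : A.toFinset ∩ N.toFinset = ∅) {a n : GT hφ hK}
    (ha : a ∈ Yl hφ hK A) (hn : n ∈ Yl hφ hK N) : a * n * a⁻¹ ∈ Yl hφ hK N := by
  have hlt : ∀ r ∈ A, r ∈ (QD K).sys.P := fun r hr => by
    simp only [combB, List.all_eq_true, Bool.and_eq_true, decide_eq_true_eq] at h
    exact (QD K).sys.P_eq ▸ mem_posSet.2 ⟨(h r hr).1.1, (h r hr).1.2⟩
  set S := XS (QD K).sys.x (↑N.toFinset : Set ℕ)
  have gen : ∀ r ∈ A, ∀ t, ∀ p ∈ S, (QD K).sys.x r t * p * ((QD K).sys.x r t)⁻¹ ∈ S := by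
    intro r hr t p hp
    refine conj_mem_XS (fun s hs u => ?_) hp
    have hs' := List.mem_toFinset.1 hs
    have hne : r ≠ s := fun e => by
      have : r ∈ A.toFinset ∩ N.toFinset :=
        Finset.mem_inter.2 ⟨List.mem_toFinset.2 hr, e ▸ hs⟩
      rw [hd] at this
      exact absurd this (Finset.notMem_empty r)
    rw [show (QD K).sys.x r t * (QD K).sys.x s u * ((QD K).sys.x r t)⁻¹ =
      (QD K).sys.x r t * (QD K).sys.x s u * ((QD K).sys.x r t)⁻¹ * ((QD K).sys.x s u)⁻¹ *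
        (QD K).sys.x s u by group]
    refine mul_mem (XS_mono (fun k hk => ?_) ((QD K).sys.toUnip.comm (hlt r hr)
      ((closed_of_comb hN).1 hs) hne t u)) (x_mem_XS hs u)
    exact List.mem_toFinset.2 (comb_mem h hr hs' hne hk)
  rw [mem_Yl, lift_mul, lift_mul, lift_inv]
  have ha' : lift (Md hφ hK) a ∈ XS (QD K).sys.x (↑A.toFinset : Set ℕ) := ha
  suffices ∀ v ∈ XS (QD K).sys.x (↑A.toFinset : Set ℕ),
      ∀ p ∈ S, v * p * v⁻¹ ∈ S ∧ v⁻¹ * p * v ∈ S from (this _ ha' _ hn).1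
  intro v hv
  induction hv using Subgroup.closure_induction with
  | mem v hv =>
    obtain ⟨r, hr, t, rfl⟩ := hv
    have hr' := List.mem_toFinset.1 hr
    intro p hp
    refine ⟨gen r hr' t p hp, ?_⟩
    have := gen r hr' (-t) p hp
    rwa [(QD K).sys.toUnip.x_neg (hlt r hr'), inv_inv] at this
  | one => intro p hp; simpa using hp
  | mul x y _ _ ihx ihy =>
    intro p hp
    constructor
    · rw [show x * y * p * (x * y)⁻¹ = x * (y * p * y⁻¹) * x⁻¹ by group]
      exact (ihx _ (ihy p hp).1).1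
    · rw [show (x * y)⁻¹ * p * (x * y) = y⁻¹ * (x⁻¹ * p * x) * y by group]
      exact (ihy _ (ihx p hp).2).2
  | inv x _ ih =>
    intro p hp
    rw [inv_inv]
    exact ⟨(ih p hp).2, (ih p hp).1⟩

theorem Yl_comm {R S T : List ℕ} (h : comm2B R S T = true) (hR : comm2B R T [] = true)
    (hS : comm2B S T [] = true) {a b : GT hφ hK} (ha : a ∈ Yl hφ hK R) (hb : b ∈ Yl hφ hK S) :
    ⁅a, b⁆ ∈ Yl hφ hK T := by
  set N := XS (QD K).sys.x (↑T.toFinset : Set ℕ)
  have cen : ∀ {L : List ℕ}, comm2B L T [] = true →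
      ∀ v ∈ XS (QD K).sys.x (↑L.toFinset : Set ℕ), ∀ n ∈ N, v * n * v⁻¹ = n := by
    intro L hL v hv n hn
    have h1 : ∀ r ∈ L, ∀ t, ∀ s ∈ T, ∀ u, Commute ((QD K).sys.x r t) ((QD K).sys.x s u) := by
      intro r hr t s hs u
      have := comm2 (K := K) hL hr hs t u
      rw [List.toFinset_nil, Finset.coe_empty, XS_empty, Subgroup.mem_bot] at this
      exact commutatorElement_eq_one_iff_commute.1 this
    have h2 : ∀ r ∈ L, ∀ t, Commute ((QD K).sys.x r t) n := fun r hr t => by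
      induction hn using Subgroup.closure_induction with
      | mem x hx => obtain ⟨s, hs, u, rfl⟩ := hx; exact h1 r hr t s (List.mem_toFinset.1 hs) u
      | one => exact Commute.one_right _
      | mul x y _ _ hx hy => exact hx.mul_right hy
      | inv x _ hx => exact hx.inv_right
    have h3 : Commute v n := by
      induction hv using Subgroup.closure_induction with
      | mem x hx => obtain ⟨r, hr, t, rfl⟩ := hx; exact h2 r (List.mem_toFinset.1 hr) t
      | one => exact Commute.one_left _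
      | mul x y _ _ hx hy => exact hx.mul_left hy
      | inv x _ hx => exact hx.inv_left
    rw [h3.eq, mul_inv_cancel_right]
  have step : ∀ r ∈ R, ∀ t, ∀ q ∈ XS (QD K).sys.x (↑S.toFinset : Set ℕ),
      ⁅(QD K).sys.x r t, q⁆ ∈ N := by
    intro r hr t q hq
    induction hq using Subgroup.closure_induction with
    | mem x hx => obtain ⟨s, hs, u, rfl⟩ := hx; exact comm2 h hr (List.mem_toFinset.1 hs) t u
    | one => rw [commutatorElement_one_right]; exact one_mem _
    | mul x y hxm _ hx hy =>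
      rw [show ⁅(QD K).sys.x r t, x * y⁆ = ⁅(QD K).sys.x r t, x⁆ *
        (x * ⁅(QD K).sys.x r t, y⁆ * x⁻¹) by simp only [commutatorElement_def]; group,
        cen hS x hxm _ hy]
      exact mul_mem hx hy
    | inv x hxm hx =>
      rw [show ⁅(QD K).sys.x r t, x⁻¹⁆ = x⁻¹ * ⁅(QD K).sys.x r t, x⁆⁻¹ * x⁻¹⁻¹ by
        simp only [commutatorElement_def]; group, cen hS x⁻¹ (inv_mem hxm) _ (inv_mem hx)]
      exact inv_mem hx
  rw [mem_Yl, lift_comm]
  have hb' : lift (Md hφ hK) b ∈ XS (QD K).sys.x (↑S.toFinset : Set ℕ) := hb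
  replace ha : lift (Md hφ hK) a ∈ XS (QD K).sys.x (↑R.toFinset : Set ℕ) := ha
  generalize lift (Md hφ hK) a = v at ha ⊢
  induction ha using Subgroup.closure_induction with
  | mem x hx => obtain ⟨r, hr, t, rfl⟩ := hx; exact step r (List.mem_toFinset.1 hr) t _ hb'
  | one => rw [commutatorElement_one_left]; exact one_mem _
  | mul x y hxm _ hx hy =>
    rw [show ⁅x * y, lift (Md hφ hK) b⁆ = x * ⁅y, lift (Md hφ hK) b⁆ * x⁻¹ *
      ⁅x, lift (Md hφ hK) b⁆ by simp only [commutatorElement_def]; group, cen hR x hxm _ hy]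
    exact mul_mem hy hx
  | inv x hxm hx =>
    rw [show ⁅x⁻¹, lift (Md hφ hK) b⁆ = x⁻¹ * ⁅x, lift (Md hφ hK) b⁆⁻¹ * x⁻¹⁻¹ by
      simp only [commutatorElement_def]; group, cen hR x⁻¹ (inv_mem hxm) _ (inv_mem hx)]
    exact inv_mem hx

theorem Yl_commute {R S : List ℕ} (h : comm2B R S [] = true) {a b : GT hφ hK}
    (ha : a ∈ Yl hφ hK R) (hb : b ∈ Yl hφ hK S) : Commute a b := by
  have h1 : comm2B R [] [] = true := by
    simp only [comm2B, List.all_eq_true, Bool.and_eq_true] at h ⊢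
    exact fun r hr => ⟨(h r hr).1, fun s hs => absurd hs List.not_mem_nil⟩
  have h2 : comm2B S [] [] = true ∨ R = [] := by
    rcases R with _ | ⟨r, R⟩
    · exact Or.inr rfl
    · left
      simp only [comm2B, List.all_eq_true, Bool.and_eq_true] at h ⊢
      exact fun s hs => ⟨((h r (by simp)).2 s hs).1, fun x hx => absurd hx List.not_mem_nil⟩
  rcases h2 with h2 | rfl
  · have := Yl_comm hφ hK h h1 h2 ha hb
    rw [mem_Yl, List.toFinset_nil, Finset.coe_empty, XS_empty, Subgroup.mem_bot] at this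
    exact commutatorElement_eq_one_iff_commute.1 (lift_injective _ this)
  · rw [mem_Yl, List.toFinset_nil, Finset.coe_empty, XS_empty, Subgroup.mem_bot] at ha
    rw [show a = 1 from lift_injective _ ha]
    exact Commute.one_left b

/-- A generator of the multiplicative group. -/
noncomputable def gen (K : Type u) [Field K] [Fintype K] : Kˣ :=
  (IsCyclic.exists_ofOrder_eq_natCard (α := Kˣ)).choose

/-- The torus element of a root. -/
noncomputable def tor (s : ℕ) : GT hφ hK :=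
  hel hφ hK (gen K ^ (chevF4.cartan 1 s * (2 : ℤ) ^ m + chevF4.cartan 2 s),
    (gen K ^ (chevF4.cartan 0 s * (2 : ℤ) ^ m + chevF4.cartan 3 s))⁻¹)

theorem tor_mem (s : ℕ) : tor hφ hK s ∈ (Md hφ hK).tw.H := hel_mem hφ hK _

/-- The character value of the torus element of `s` on `r`. -/
noncomputable def chv (K : Type u) [Field K] [Fintype K] (m r s : ℕ) : Kˣ :=
  gen K ^ ((chevF4.cartan 0 r * (2 : ℤ) ^ m + chevF4.cartan 3 r) *
      (chevF4.cartan 1 s * (2 : ℤ) ^ m + chevF4.cartan 2 s) -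
    (chevF4.cartan 1 r * (2 : ℤ) ^ m + chevF4.cartan 2 r) *
      (chevF4.cartan 0 s * (2 : ℤ) ^ m + chevF4.cartan 3 s))

theorem tor_conj (s : ℕ) {r : ℕ} (hr : r < 48) (t : K) :
    lift (Md hφ hK) (tor hφ hK s) * xe r t * (lift (Md hφ hK) (tor hφ hK s))⁻¹ =
      xe r ((chv K m r s : K) * t) := by
  rw [tor, lift_hel]
  refine (tG_conj (QD K) _ hr t).trans (congrArg (xe r) (congrArg (· * t) (congrArg Units.val ?_)))
  rw [chT_eq]
  show ((gen K ^ _) ^ 2 ^ m) ^ _ * (((gen K ^ _)⁻¹) ^ 2 ^ m) ^ _ * ((gen K ^ _)⁻¹) ^ _ *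
    (gen K ^ _) ^ _ = _
  simp only [← zpow_neg, ← zpow_natCast, ← zpow_mul, ← zpow_add, chv]
  congr 1
  push_cast
  ring

include hK in
theorem chv_eq_one_iff (r s : ℕ) : chv K m r s = 1 ↔
    ((2 * (2 : ℤ) ^ m * 2 ^ m - 1) : ℤ) ∣ (form r s).1 + (form r s).2 * 2 ^ m := by
  have hg : orderOf (gen K) = Nat.card Kˣ :=
    (IsCyclic.exists_ofOrder_eq_natCard (α := Kˣ)).choose_spec
  have hq : ((orderOf (gen K) : ℕ) : ℤ) = 2 * (2 : ℤ) ^ m * 2 ^ m - 1 := by
    rw [hg, Nat.card_units, Nat.card_eq_fintype_card, hK,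
      Nat.cast_sub Nat.one_le_two_pow]
    push_cast
    ring
  rw [chv, ← orderOf_dvd_iff_zpow_eq_one, hq]
  set e : ℤ := (2 : ℤ) ^ m
  set d : ℤ := (chevF4.cartan 0 r * e + chevF4.cartan 3 r) *
      (chevF4.cartan 1 s * e + chevF4.cartan 2 s) -
    (chevF4.cartan 1 r * e + chevF4.cartan 2 r) * (chevF4.cartan 0 s * e + chevF4.cartan 3 s)
  have h : 2 * d = (chevF4.cartan 0 r * chevF4.cartan 1 s - chevF4.cartan 1 r * chevF4.cartan 0 s) *
      (2 * e * e - 1) + ((form r s).1 + (form r s).2 * e) := by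
    simp only [d, form]; ring
  have hc : IsCoprime (2 * e * e - 1) 2 := ⟨-1, e * e, by ring⟩
  constructor
  · intro h1
    have h2 : (2 * e * e - 1) ∣ 2 * d := h1.mul_left 2
    rw [h] at h2
    exact (dvd_add_right (dvd_mul_left _ _)).1 h2
  · intro h1
    refine hc.dvd_of_dvd_mul_left ?_
    rw [h]
    exact dvd_add (dvd_mul_left _ _) h1

include hK in
theorem chv_fix {L : List ℕ} {s : ℕ} (h : fixB L s = true) {r : ℕ} (hr : r ∈ L) :
    r < 48 ∧ chv K m r s = 1 := by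
  simp only [fixB, List.all_eq_true, Bool.and_eq_true, decide_eq_true_eq] at h
  refine ⟨(h r hr).1, (chv_eq_one_iff hK r s).2 ?_⟩
  rw [(h r hr).2]
  simp

include hK in
theorem chv_sep (hm : 1 ≤ m) {L : List ℕ} {s : ℕ} (h : sepB L s = true) {r : ℕ} (hr : r ∈ L) :
    r < 48 ∧ chv K m r s ≠ 1 := by
  simp only [sepB, List.all_eq_true, Bool.and_eq_true, decide_eq_true_eq, Bool.not_eq_true',
    decide_eq_false_iff_not] at h
  obtain ⟨hlt, ⟨hne, h1, h2, h3, h4⟩, hsmall⟩ := h r hr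
  refine ⟨hlt, fun hc => ?_⟩
  have hd := (chv_eq_one_iff hK r s).1 hc
  set u := (form r s).1
  set v := (form r s).2
  rcases (show m ≤ 4 ∨ 5 ≤ m by omega) with hm4 | hm5
  · have he : (2 : ℤ) ^ m ∈ [(2 : ℤ), 4, 8, 16] := by
      interval_cases m <;> simp
    exact hsmall _ he (Int.emod_eq_zero_of_dvd hd)
  · have he : (32 : ℤ) ≤ 2 ^ m :=
      (show ((32 : ℤ)) = 2 ^ 5 by norm_num) ▸ pow_le_pow_right₀ (by norm_num) hm5
    set e : ℤ := 2 ^ m
    have hz : u + v * e = 0 := by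
      refine Int.eq_zero_of_abs_lt_dvd hd ?_
      rw [abs_lt]
      constructor <;> nlinarith
    have hv : v = 0 := by
      by_contra hv
      rcases lt_or_gt_of_ne hv with hv | hv <;> nlinarith
    exact hne (Prod.ext (by rw [hv] at hz; simpa using hz) hv)

theorem tor_fix {L : List ℕ} {s : ℕ} (h : fixB L s = true) {y : GT hφ hK} (hy : y ∈ Yl hφ hK L) :
    tor hφ hK s * y * (tor hφ hK s)⁻¹ = y := by
  refine lift_injective _ ?_
  rw [lift_mul, lift_mul, lift_inv]
  set n := lift (Md hφ hK) (tor hφ hK s)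
  suffices ∀ v ∈ XS (QD K).sys.x (↑L.toFinset : Set ℕ), Commute n v by
    exact mul_inv_eq_iff_eq_mul.2 (this _ hy).eq
  intro v hv
  induction hv using Subgroup.closure_induction with
  | mem x hx =>
    obtain ⟨r, hr, t, rfl⟩ := hx
    obtain ⟨hlt, hc⟩ := chv_fix hK h (List.mem_toFinset.1 hr)
    have e := tor_conj hφ hK s hlt t
    rw [hc, Units.val_one, one_mul] at e
    exact mul_inv_eq_iff_eq_mul.1 e
  | one => exact Commute.one_right _
  | mul x y _ _ hx hy => exact hx.mul_right hy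
  | inv x _ hx => exact hx.inv_right

theorem tor_moves (hm : 1 ≤ m) {L : List ℕ} {s : ℕ} (h : sepB L s = true)
    (hc : combB L L L = true) (hL : L.Pairwise (· < ·)) :
    ∀ x ∈ Yl hφ hK L, ∃ y ∈ Yl hφ hK L, ⁅tor hφ hK s, y⁆ = x := by
  haveI := finiteGT hφ hK
  have hlt : ∀ r ∈ L, r < 48 := fun r hr => (chv_sep hK hm h hr).1
  have hst : ∀ y ∈ Yl hφ hK L, tor hφ hK s * y * (tor hφ hK s)⁻¹ ∈ Yl hφ hK L :=
    fun y hy => H_conj_Yl hφ hK hlt (tor_mem hφ hK s) hy
  let f : Yl hφ hK L → Yl hφ hK L := fun y =>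
    ⟨⁅tor hφ hK s, (y : GT hφ hK)⁆, by
      rw [commutatorElement_def]; exact mul_mem (hst _ y.2) (inv_mem y.2)⟩
  have hf : Function.Injective f := by
    intro y z e
    have e' := congrArg Subtype.val e
    simp only [f, commutatorElement_def] at e'
    set n := tor hφ hK s
    have e1 : n * ((z : GT hφ hK)⁻¹ * y) * n⁻¹ = (z : GT hφ hK)⁻¹ * y := by
      rw [show n * ((z : GT hφ hK)⁻¹ * y) * n⁻¹ = (n * (z : GT hφ hK) * n⁻¹)⁻¹ *
        (n * (y : GT hφ hK) * n⁻¹ * (y : GT hφ hK)⁻¹) * y by group, e']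
      group
    obtain ⟨c, hc'⟩ := exists_xprod (QD K) hL (closed_of_comb hc)
      (show lift (Md hφ hK) ((z : GT hφ hK)⁻¹ * y) ∈ _ from
        (Yl hφ hK L).mul_mem ((Yl hφ hK L).inv_mem z.2) y.2)
    have e2 := congrArg (lift (Md hφ hK)) e1
    rw [lift_mul, lift_mul, lift_inv, hc'] at e2
    have e3 : lift (Md hφ hK) n * xprod (QD K) L c * (lift (Md hφ hK) n)⁻¹ =
        xprod (QD K) L fun r => (chv K m r s : K) * c r := by
      rw [xprod, xprod, ← MulAut.conj_apply, map_list_prod, List.map_map]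
      refine congrArg List.prod (List.map_congr_left fun r hr => ?_)
      exact tor_conj hφ hK s (hlt r hr) (c r)
    have hz0 : ∀ r ∈ L, c r = 0 := fun r hr => by
      have h1 := xprod_inj (QD K) hL (closed_of_comb hc) (e3.symm.trans e2) r hr
      by_contra h0
      exact (chv_sep hK hm h hr).2 (Units.ext ((mul_eq_right₀ h0).1 h1))
    rw [xprod_congr (QD K) (t' := fun _ => 0) hz0, xprod_one L hlt] at hc'
    exact (Subtype.ext (inv_mul_eq_one.1 (lift_injective _ hc'))).symm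
  intro x hx
  obtain ⟨y, hy⟩ := (Finite.injective_iff_surjective.1 hf) ⟨x, hx⟩
  exact ⟨y, y.2, congrArg Subtype.val hy⟩

end

end Cfsg.Agent.H40.Ree
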