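import Cfsg.Agent.H40.Ree.Kill
import Cfsg.Agent.H40.Ree.Rays

/-!
The root groups of the eight rays of `²F₄(q)` have no stem part in central extensions by an involution.
-/

set_option autoImplicit false
set_option maxRecDepth 100000

namespace Cfsg.Agent.H40.Ree

open Cfsg.Lie Cfsg.Agent.H37 Cfsg.Agent.H37.RootSys Cfsg.Agent.H37.Twist Cfsg.Agent.H56.ChevAut
open Cfsg.Agent.H56.TwAut Cfsg.Agent.H56.TwAut.F4 Cfsg.Agent.H37.Twist.F4
open Cfsg.Agent.Linear.Mult
open scoped commutatorElement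

universe u

theorem killed_of_conj {l : ℕ} {X G : Type*} [Group X] [Group G] {E : LExt l X G} {Y Y' : Subgroup G}
    (g : G) (h : E.Killed Y') (hY : ∀ y ∈ Y, g * y * g⁻¹ ∈ Y') : E.Killed Y := by
  intro z hz h1
  obtain ⟨a, rfl⟩ := E.surj g
  have hle : (⁅E.pre Y, E.pre Y⁆).map (MulAut.conj a).toMonoidHom ≤ ⁅E.pre Y', E.pre Y'⁆ := by
    rw [Subgroup.map_commutator]
    refine Subgroup.commutator_mono ?_ ?_ <;>
    · rintro _ ⟨x, hx, rfl⟩
      show E.proj (a * x * a⁻¹) ∈ Y'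
      rw [map_mul, map_mul, map_inv]
      exact hY _ hx
  have h2 := hle ⟨z, hz, rfl⟩
  rw [show (MulAut.conj a).toMonoidHom z = a * z * a⁻¹ from rfl, E.ker_central h1 a,
    mul_inv_cancel_right] at h2
  exact h z h2 h1

/-! ### Checks -/

/-- Words carrying each ray to the first or to the last one. -/
def wseq : Fin 8 → List (Fin 2) := ![[], [0], [1, 0], [0, 1, 0], [1, 0, 1], [0, 1], [1], []]

theorem wseq_ok : ∀ a : Fin 8, ∀ r ∈ ray a, Weyl.certF4.act ((wseq a).flatMap F4.word) r ∈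
    ray (if a.val % 2 = 0 then 0 else 7) := by decide +kernel

/-- The word of the auxiliary element of the sixth ray. -/
def wv : List (ℕ × ℤ) := [(31, 1), (35, 1), (40, 1)]

/-- The word of the auxiliary negative element. -/
def uv : List (ℕ × ℤ) := [(14, 1), (23, 1)]

theorem word_ok : sameWordP 2 chevF4 (wv.map fun p => (F4.tables.rh p.1, p.2)) wv = true ∧
    sameWordP 2 chevF4 (uv ++ wv ++ uv.reverse ++ wv.reverse) [(28, 1), (30, 1)] = true := by
  decide +kernel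

theorem base_checks :
    comm2B (ray 7) (ray 5) (ray 6) = true ∧ comm2B (ray 7) (ray 6) [] = true ∧
    comm2B (ray 5) (ray 6) [] = true ∧ comm2B (ray 7) [14, 23] [] = true ∧
    comm2B [14, 23] (ray 6) [] = true ∧ comm2B (ray 6) [28, 30] [] = true ∧
    comm2B [14, 23] (ray 7) [] = true ∧ comm2B (ray 7) [28, 30] [] = true := by decide +kernel

theorem z_checks : combB [28, 30] [28, 30] [28, 30] = true ∧ ([28, 30] : List ℕ).Pairwise (· < ·) ∧
    sepB [28, 30] (top 0) = true ∧ sepB [28, 30] (top 6) = true := by decide +kernel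

variable {K : Type u} [Field K] [Fintype K] [CharP K 2] {φ : K →+* K} {m : ℕ}

omit [Fintype K] in
theorem wG_reverse : ∀ v : List (ℕ × ℤ), (∀ p ∈ v, p.1 < chevF4.nroots) →
    wG (QD K) (castW K v.reverse) = (wG (QD K) (castW K v))⁻¹
  | [], _ => by simp [castW, wG]
  | p :: v, h => by
    have ih := wG_reverse v fun q hq => h q (List.mem_cons_of_mem _ hq)
    have hp := h p (by simp)
    rw [List.reverse_cons, castW, List.map_append, wG_append,
      show wG (QD K) (List.map (fun a => (a.1, (a.2 : K))) v.reverse) = _ from ih]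
    simp only [wG, castW, List.map_cons, List.map_nil, List.prod_cons, List.prod_nil, mul_one,
      mul_inv_rev]
    congr 1
    refine eq_inv_of_mul_eq_one_left ?_
    show xe p.1 (p.2 : K) * xe p.1 (p.2 : K) = 1
    rw [← xe_add hp, CharTwo.add_self_eq_zero, xe_zero hp]

omit [Fintype K] [CharP K 2] in
theorem wG_mem_XS {L : List ℕ} : ∀ v : List (ℕ × ℤ), (∀ p ∈ v, p.1 ∈ L) →
    wG (QD K) (castW K v) ∈ XS (QD K).sys.x (↑L.toFinset : Set ℕ) := fun v h => by
  refine Subgroup.list_prod_mem _ fun g hg => ?_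
  obtain ⟨q, hq, rfl⟩ := List.mem_map.1 hg
  obtain ⟨p, hp, rfl⟩ := List.mem_map.1 hq
  exact x_mem_XS (Finset.mem_coe.2 (List.mem_toFinset.2 (h p hp))) _

section

variable (hφ : ∀ t, φ t = t ^ 2 ^ m) (hK : Fintype.card K = 2 ^ (2 * m + 1))

theorem Yl_mono {A B : List ℕ} (h : ∀ r ∈ A, r ∈ B) : Yl hφ hK A ≤ Yl hφ hK B :=
  fun _ hg => XS_mono (fun r hr => List.mem_toFinset.2 (h r (List.mem_toFinset.1 hr))) hg

theorem exists_x0_Yl {g : GT hφ hK} (hg : g ∈ Yl hφ hK (ray 0)) : ∃ t, g = x0 hφ hK t := by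
  refine exists_x0 hφ hK ((mem_Uw (Md hφ hK)).2 ?_)
  rw [ι_gen0, Sys.Uw, flip_word (QD K).X.good (show ∀ a ∈ [0, 3], a < (QD K).X.n by
    show ∀ a ∈ [0, 3], a < 4; decide)]
  have e : flipList (QD K).X.C chevF4 [0, 3] = [24, 33] := flip_ok.2
  rw [e]
  exact hg

theorem exists_x1_Yl {g : GT hφ hK} (hg : g ∈ Yl hφ hK (ray 7)) : ∃ t c, g = x1 hφ hK t c := by
  refine exists_x1 hφ hK ((mem_Uw (Md hφ hK)).2 ?_)
  rw [Uw_gen]
  exact hg

theorem x1_Yl (t c : K) : x1 hφ hK t c ∈ Yl hφ hK (ray 7) := by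
  have h := (mem_Uw (Md hφ hK)).1 (x1_mem hφ hK t c)
  rw [Uw_gen] at h
  exact h

theorem x1_Z (c : K) : x1 hφ hK 0 c ∈ Yl hφ hK [28, 30] := by
  rw [mem_Yl, lift_x1, pr, four]
  simp only [map_zero, pc]
  rw [xe_zero (by decide), xe_zero (by decide), one_mul, one_mul]
  exact mul_mem (x_mem_XS (by simp) _) (x_mem_XS (by simp) _)

theorem exists_Z {g : GT hφ hK} (hg : g ∈ Yl hφ hK [28, 30]) : ∃ c, g = x1 hφ hK 0 c := by
  obtain ⟨t, c, rfl⟩ := exists_x1_Yl hφ hK (Yl_mono hφ hK (by decide) hg)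
  obtain ⟨f, hf⟩ := exists_xprod (QD K) z_checks.2.1 (closed_of_comb z_checks.1) hg
  have e : xprod (QD K) [28, 30] f = four pc 0 0 (f 28) (f 30) := by
    rw [four, pc, xe_zero (by decide), xe_zero (by decide), one_mul, one_mul]
    simp [xprod]
  replace hf : lift (Md hφ hK) (x1 hφ hK t c) = xprod (QD K) [28, 30] f := hf
  rw [lift_x1, pr, e] at hf
  obtain ⟨rfl, -⟩ := four_inj hf
  exact ⟨c, rfl⟩

theorem x1_center (c t c' : K) : Commute (x1 hφ hK 0 c) (x1 hφ hK t c') := by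
  show _ = _
  rw [x1_mul, x1_mul, zero_add, add_zero, map_zero, mul_zero, zero_mul, add_zero, add_zero,
    add_comm c c']

include hφ hK in
theorem exists_muphi (r : Kˣ) : ∃ p : Kˣ × Kˣ, (mu m p : K) * φ (mu m p : K) = r := by
  have hcop : (Nat.card Kˣ).Coprime (2 ^ m + 1) := by
    rw [Nat.card_units, Nat.card_eq_fintype_card, hK]
    obtain ⟨e, he⟩ : ∃ e, 2 ^ m = e + 1 := ⟨2 ^ m - 1, by have := Nat.one_le_two_pow (n := m); omega⟩
    have h2 : 2 ^ (2 * m + 1) - 1 = 2 * e * (2 ^ m + 1) + 1 := by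
      refine Nat.sub_eq_of_eq_add ?_
      rw [show 2 ^ (2 * m + 1) = 2 * 2 ^ m * 2 ^ m by ring, he]
      ring
    rw [h2]
    simp
  obtain ⟨a, ha⟩ := (powCoprime hcop).surjective r
  refine ⟨(a⁻¹, 1), ?_⟩
  rw [show mu m (a⁻¹, (1 : Kˣ)) = a by simp [mu], hφ, mul_comm, ← pow_succ]
  rw [← Units.val_pow_eq_pow_val]
  exact congrArg Units.val ha

variable {X : Type u} [Group X] [Finite X] (hm : 1 ≤ m) (E : LExt 2 X (GT hφ hK))

include hm in
theorem killed_ray0 : E.Killed (Yl hφ hK (ray 0)) :=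
  killed_of_field hm hK (x0 hφ hK) (fun s t => (x0_add hφ hK s t).symm)
    (fun _ hy => exists_x0_Yl hφ hK hy) fun r => ⟨hel hφ hK (1, r⁻¹), fun t => by
      rw [(hel_x0 hφ hK _ t).1]; simp [chi0]⟩

include hm in
theorem killed_Z : E.Killed (Yl hφ hK [28, 30]) :=
  killed_of_field hm hK (x1 hφ hK 0) (fun s t => by
      rw [x1_mul]; simp) (fun _ hy => exists_Z hφ hK hy) fun r => by
    obtain ⟨p, hp⟩ := exists_muphi hφ hK r
    exact ⟨hel hφ hK p, fun t => by rw [hel_x1, mul_zero, ← hp]⟩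

theorem H_conj {L : List ℕ} (hL : ∀ r ∈ L, r < 48) :
    ∀ t ∈ ((Md hφ hK).tw.H : Set (GT hφ hK)), ∀ y ∈ Yl hφ hK L, t * y * t⁻¹ ∈ Yl hφ hK L :=
  fun _ ht _ hy => H_conj_Yl hφ hK hL ht hy

include hm in
theorem sec_of_killed {L : List ℕ} (hc : combB L L L = true) (hs : L.Pairwise (· < ·)) {s : ℕ}
    (hsep : sepB L s = true) (hk : E.Killed (Yl hφ hK L)) :
    Nonempty (Sec E ((Md hφ hK).tw.H : Set (GT hφ hK)) (Yl hφ hK L)) := by
  haveI := finiteGT hφ hK
  have hlt : ∀ r ∈ L, r < 48 := fun r hr => (chv_sep hK hm hsep hr).1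
  refine nonempty_sec_of_fpf hk ?_ (H_conj hφ hK hlt _ (tor_mem hφ hK s))
    (tor_moves hφ hK hm hsep hc hs) (H_conj hφ hK hlt) fun t ht => H_comm hφ hK _ ht _ (tor_mem hφ hK s)
  have h := Subgroup.orderOf_dvd_natCard (Md hφ hK).tw.H (tor_mem hφ hK s)
  exact Nat.Coprime.coprime_dvd_left h
    ((Nat.prime_two.coprime_iff_not_dvd).2 (odd_card_H hφ hK)).symm

include hm in
/-- Two commuting pieces, one fixed by a torus element moving the other. -/
theorem cm_sep {A B : List ℕ} (hcomm : comm2B A B [] = true) {s : ℕ} (hA : fixB A s = true)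
    (hB : sepB B s = true) (hc : combB B B B = true) (hs : B.Pairwise (· < ·))
    {a b : GT hφ hK} (ha : a ∈ Yl hφ hK A) (hb : b ∈ Yl hφ hK B) : E.cm a b = 1 :=
  cm_eq_one_of_sep (fun x hx y hy => Yl_commute hφ hK hcomm hx hy)
    (fun x hx => tor_fix hφ hK hA hx)
    (fun y hy => H_conj_Yl hφ hK (fun r hr => (chv_sep hK hm hB hr).1) (tor_mem hφ hK s) hy)
    (tor_moves hφ hK hm hB hc hs) ha hb

theorem exists_w : ∃ w ∈ Yl hφ hK (ray 5),
    lift (Md hφ hK) w = wG (QD K) (castW K wv) := by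
  obtain ⟨w, hw⟩ := mem_T_of_fixed hφ hK (v := wG (QD K) (castW K wv)) (by
    conv_rhs => rw [← wG_eq_of_sameWordP 2 word_ok.1]
    rw [wG, map_list_prod, wG]
    simp only [castW, wv, List.map_cons, List.map_nil, Int.cast_one]
    rw [σ_xe (by decide), σ_xe (by decide), σ_xe (by decide), map_one, one_pow, one_pow, one_pow])
  refine ⟨w, ?_, hw⟩
  rw [mem_Yl, hw]
  exact wG_mem_XS wv (by decide)

include hm in
theorem cm_x1_Z (t c d : K) : E.cm (x1 hφ hK t c) (x1 hφ hK 0 d) = 1 := by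
  have key : ∀ a ∈ Yl hφ hK (ray 7), E.cm a (x1 hφ hK 0 1) = 1 := by
    intro a ha
    obtain ⟨c75, c76, c56, c7u, cu6, c6z, cu7, -⟩ := base_checks
    obtain ⟨hz1, hz2, -, hz6⟩ := z_checks
    obtain ⟨w, hw, ew⟩ := exists_w hφ hK
    set u := y0 hφ hK 1
    have eu : lift (Md hφ hK) u = wG (QD K) (castW K uv) := by
      show (xe 14 (φ 1) * xe 23 1 : ↥(chevF4.group K)) = _
      simp [wG, castW, uv]
    have hu : u ∈ Yl hφ hK [14, 23] := by
      rw [mem_Yl, eu]; exact wG_mem_XS uv (by decide)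
    set z := x1 hφ hK 0 1
    have hzu : ⁅u, w⁆ = z := by
      refine lift_injective _ ?_
      rw [lift_comm, eu, ew, commutatorElement_def, ← wG_reverse _ (by decide),
        ← wG_reverse _ (by decide), ← wG_append, ← wG_append, ← wG_append,
        show castW K uv ++ castW K wv ++ castW K uv.reverse ++ castW K wv.reverse =
          castW K (uv ++ wv ++ uv.reverse ++ wv.reverse) by simp only [castW, List.map_append],
        wG_eq_of_sameWordP 2 word_ok.2, lift_x1, pr, four]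
      simp [wG, castW, pc, xe_zero (show (25 : ℕ) < chevF4.nroots by decide),
        xe_zero (show (27 : ℕ) < chevF4.nroots by decide)]
    have hr : ⁅a, w⁆ ∈ Yl hφ hK (ray 6) := Yl_comm hφ hK c75 c76 c56 ha hw
    have hau : E.cm a u = 1 := E.cm_symm (cm_sep hφ hK hm E cu7 fix_ok.2
      ((sep_ok 0 7).resolve_left (by decide)) (rays_closed 7).1 (rays_closed 7).2.2 hu ha)
    have hur : E.cm u ⁅a, w⁆ = 1 := cm_sep hφ hK hm E cu6 fix_ok.2
      ((sep_ok 0 6).resolve_left (by decide)) (rays_closed 6).1 (rays_closed 6).2.2 hu hr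
    have hrz : E.cm ⁅a, w⁆ z = 1 :=
      cm_sep hφ hK hm E c6z (fix_ok.1 6) hz6 hz1 hz2 hr (x1_Z hφ hK 1)
    obtain ⟨A, hA⟩ := E.surj a
    obtain ⟨U, hU⟩ := E.surj u
    obtain ⟨W, hW⟩ := E.surj w
    have eR : E.proj ⁅A, W⁆ = ⁅a, w⁆ := by rw [map_commutatorElement, hA, hW]
    have eZ : E.proj ⁅U, W⁆ = z := by rw [map_commutatorElement, hU, hW, hzu]
    have cAU : A * U * A⁻¹ = U := by rw [(E.commute_of_cm hau hA hU).eq, mul_inv_cancel_right]
    have cUR : U * ⁅A, W⁆ = ⁅A, W⁆ * U := (E.commute_of_cm hur hU eR).eq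
    have cRZ : ⁅A, W⁆ * ⁅U, W⁆ = ⁅U, W⁆ * ⁅A, W⁆ := (E.commute_of_cm hrz eR eZ).eq
    refine E.cm_eq_one_of_commute hA eZ ?_
    refine mul_inv_eq_iff_eq_mul.1 ?_
    calc A * ⁅U, W⁆ * A⁻¹ = ⁅A * U * A⁻¹, A * W * A⁻¹⁆ := by
          simp only [commutatorElement_def]; group
      _ = ⁅U, ⁅A, W⁆ * W⁆ := by rw [cAU]; simp only [commutatorElement_def]; group
      _ = U * ⁅A, W⁆ * U⁻¹ * ⁅A, W⁆⁻¹ * (⁅A, W⁆ * ⁅U, W⁆ * ⁅A, W⁆⁻¹) := by
          simp only [commutatorElement_def]; group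
      _ = _ := by rw [cUR, cRZ]; group
  rcases eq_or_ne d 0 with rfl | hd
  · rw [x1_zero, E.cm_one_right]
  obtain ⟨p, hp⟩ := exists_muphi hφ hK (Units.mk0 d hd)
  set h := hel hφ hK p
  have ha : h⁻¹ * x1 hφ hK t c * h ∈ Yl hφ hK (ray 7) := by
    have := H_conj_Yl hφ hK (L := ray 7) (by decide) (inv_mem (hel_mem hφ hK p)) (x1_Yl hφ hK t c)
    rwa [inv_inv] at this
  have e1 := E.conj_cm (E.proj_lift h) (h⁻¹ * x1 hφ hK t c * h) (x1 hφ hK 0 1)
  rw [key _ ha, mul_one, mul_inv_cancel, hel_x1, mul_zero, hp, Units.val_mk0, mul_one] at e1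
  rw [show x1 hφ hK t c = h * (h⁻¹ * x1 hφ hK t c * h) * h⁻¹ by group]
  exact e1.symm

include hm in
theorem cm_x1_indep (t c t' c' : K) :
    E.cm (x1 hφ hK t c) (x1 hφ hK t' c') = E.cm (x1 hφ hK t 0) (x1 hφ hK t' 0) := by
  have h1 : ∀ t c : K, x1 hφ hK t c = x1 hφ hK t 0 * x1 hφ hK 0 c := fun t c => by
    rw [x1_mul]; simp
  conv_lhs => rw [h1 t c, h1 t' c']
  have hl : ∀ t c u v : K, E.cm (x1 hφ hK t 0 * x1 hφ hK 0 c) (x1 hφ hK u v) =
      E.cm (x1 hφ hK t 0) (x1 hφ hK u v) := fun t c u v => by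
    rw [E.cm_mul_left_of_commute (x1_center hφ hK c u v),
      E.cm_symm (cm_x1_Z hφ hK hm E u v c)]
    simp
  rw [← h1 t', hl t c t' c', h1 t' c', E.cm_mul_right, cm_x1_Z hφ hK hm E t 0 c', mul_one,
    mul_inv_cancel, mul_one]

/-- The commutator form of the last ray. -/
def zeta (φ : K →+* K) (t t' : K) : K := t' * φ t + t * φ t'

theorem x1_comm (t t' : K) :
    ⁅x1 hφ hK t 0, x1 hφ hK t' 0⁆ = x1 hφ hK 0 (zeta φ t t') := by
  have h : x1 hφ hK t 0 * x1 hφ hK t' 0 =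
      x1 hφ hK 0 (zeta φ t t') * (x1 hφ hK t' 0 * x1 hφ hK t 0) := by
    rw [x1_mul, x1_mul, x1_mul, zeta]
    congr 1
    · ring
    · simp only [map_zero, mul_zero, add_zero, zero_add]
      linear_combination (-(t * φ t')) * two_eq (K := K)
  rw [commutatorElement_def, h]
  group

include hm in
theorem killed_ray7 : E.Killed (Yl hφ hK (ray 7)) := by
  classical
  obtain ⟨hz1, hz2, hz0, -⟩ := z_checks
  obtain ⟨S⟩ := sec_of_killed hφ hK hm E hz1 hz2 hz0 (killed_Z hφ hK hm E)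
  let F : K → K → X := fun t t' => E.cm (x1 hφ hK t 0) (x1 hφ hK t' 0)
  let s : K → X := fun c => S.s (x1 hφ hK 0 c)
  have hs : ∀ c c' : K, s (c + c') = s c * s c' := fun c c' => by
    show S.s _ = _
    rw [← S.s_mul _ (x1_Z hφ hK c) _ (x1_Z hφ hK c'), x1_mul]; simp
  have hproj : ∀ t t', E.proj (F t t') = x1 hφ hK 0 (zeta φ t t') := fun t t' => by
    rw [E.proj_cm, x1_comm]
  have hcomm : ∀ t u v : K, Commute (E.lift (x1 hφ hK t 0)) (F u v) := fun t u v =>
    E.commute_of_cm (cm_x1_Z hφ hK hm E t 0 _) (E.proj_lift _) (hproj u v)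
  have hFl : ∀ t u v, F (t + u) v = F u v * F t v := fun t u v => by
    show E.cm _ _ = _
    rw [← cm_x1_indep hφ hK hm E (t + u) (u * φ t) v 0,
      show x1 hφ hK (t + u) (u * φ t) = x1 hφ hK t 0 * x1 hφ hK u 0 by rw [x1_mul]; simp,
      E.cm_mul_left]
    show E.lift _ * F u v * _ * _ = _
    rw [(hcomm t u v).eq, mul_inv_cancel_right]
  have hFr : ∀ t u v, F v (t + u) = F v t * F v u := fun t u v => by
    show E.cm _ _ = _
    rw [← cm_x1_indep hφ hK hm E v 0 (t + u) (u * φ t),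
      show x1 hφ hK (t + u) (u * φ t) = x1 hφ hK t 0 * x1 hφ hK u 0 by rw [x1_mul]; simp,
      E.cm_mul_right]
    show _ * (E.lift _ * F v u * _) = _
    rw [(hcomm t v u).eq, mul_inv_cancel_right]
  have hk : ∀ t t', E.proj (F t t' * (s (zeta φ t t'))⁻¹) = 1 := fun t t' => by
    rw [map_mul, map_inv, hproj, S.proj_s _ (x1_Z hφ hK _), mul_inv_cancel]
  have hadd : ∀ a b u v : K, F (a + b) v = F b v * F a v → u = zeta φ (a + b) v →
      F (a + b) v * (s u)⁻¹ =
        F a v * (s (zeta φ a v))⁻¹ * (F b v * (s (zeta φ b v))⁻¹) := by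
    intro a b u v e hu
    rw [e, hu, show zeta φ (a + b) v = zeta φ b v + zeta φ a v by simp only [zeta, map_add]; ring,
      hs, mul_inv_rev, ← E.ker_central (hk a v) (F b v * (s (zeta φ b v))⁻¹)]
    calc F b v * F a v * ((s (zeta φ a v))⁻¹ * (s (zeta φ b v))⁻¹)
        = F b v * (F a v * (s (zeta φ a v))⁻¹) * (s (zeta φ b v))⁻¹ := by group
      _ = F b v * ((s (zeta φ b v))⁻¹ * (F a v * (s (zeta φ a v))⁻¹)) := by
          rw [mul_assoc, ← E.ker_central (hk a v)]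
      _ = _ := by group
  have haddr : ∀ a b v : K, F v (a + b) * (s (zeta φ v (a + b)))⁻¹ =
      F v a * (s (zeta φ v a))⁻¹ * (F v b * (s (zeta φ v b))⁻¹) := by
    intro a b v
    rw [hFr, show zeta φ v (a + b) = zeta φ v b + zeta φ v a by simp only [zeta, map_add]; ring,
      hs, mul_inv_rev]
    calc F v a * F v b * ((s (zeta φ v a))⁻¹ * (s (zeta φ v b))⁻¹)
        = F v a * ((F v b * (s (zeta φ v b))⁻¹) * (s (zeta φ v b)) * (s (zeta φ v a))⁻¹) *
          (s (zeta φ v b))⁻¹ := by group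
      _ = F v a * ((s (zeta φ v b)) * (s (zeta φ v a))⁻¹ * (F v b * (s (zeta φ v b))⁻¹)) *
          (s (zeta φ v b))⁻¹ := by
          rw [mul_assoc (F v b * _), ← E.ker_central (hk v b)]
      _ = F v a * ((s (zeta φ v a))⁻¹ * s (zeta φ v b) * (F v b * (s (zeta φ v b))⁻¹)) *
          (s (zeta φ v b))⁻¹ := by
          rw [show s (zeta φ v b) * (s (zeta φ v a))⁻¹ = (s (zeta φ v a))⁻¹ * s (zeta φ v b) from
            ((show Commute (s (zeta φ v b)) (s (zeta φ v a)) by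
              show _ = _; rw [← hs, ← hs, add_comm]).inv_right).eq]
      _ = F v a * (s (zeta φ v a))⁻¹ * (s (zeta φ v b) * (F v b * (s (zeta φ v b))⁻¹) *
          (s (zeta φ v b))⁻¹) := by group
      _ = _ := by rw [E.ker_central (hk v b), mul_inv_cancel_right]
  have hker : ∀ z : E.proj.ker, ∀ w : E.proj.ker, z * w = w * z := fun z w =>
    Subtype.ext (E.ker_central w.2 (z : X))
  letI : CommGroup E.proj.ker := { (inferInstance : Group E.proj.ker) with mul_comm := hker }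
  let c : K →+ K →+ Additive E.proj.ker :=
    AddMonoidHom.mk' (fun t => AddMonoidHom.mk'
        (fun t' => Additive.ofMul ⟨F t t' * (s (zeta φ t t'))⁻¹, hk t t'⟩)
        (fun a b => congrArg Additive.ofMul (Subtype.ext (haddr a b t))))
      (fun a b => AddMonoidHom.ext fun v => congrArg Additive.ofMul
        (Subtype.ext (hadd a b _ v (hFl a b v) rfl)))
  have hc : c = 0 := bilin_eq_zero hm hK c fun r t t' => by
    refine congrArg Additive.ofMul (Subtype.ext ?_)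
    show F ((r : K) * t) ((r : K) * t') * (s (zeta φ ((r : K) * t) ((r : K) * t')))⁻¹ =
      F t t' * (s (zeta φ t t'))⁻¹
    set p : Kˣ × Kˣ := (r⁻¹, 1)
    have hp : mu m p = r := by simp [p, mu]
    obtain ⟨a, ha⟩ := E.surj (hel hφ hK p)
    have e1 := E.conj_cm ha (x1 hφ hK t 0) (x1 hφ hK t' 0)
    rw [hel_x1, hel_x1, hp, mul_zero] at e1
    have e2 := S.s_conj _ (hel_mem hφ hK p) _ (x1_Z hφ hK (zeta φ t t')) a ha
    rw [hel_x1, hp, mul_zero,
      show (r : K) * φ (r : K) * zeta φ t t' = zeta φ ((r : K) * t) ((r : K) * t') by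
        simp only [zeta, map_mul]; ring] at e2
    show E.cm _ _ * (S.s _)⁻¹ = _
    rw [← e1, ← e2, show a * E.cm (x1 hφ hK t 0) (x1 hφ hK t' 0) * a⁻¹ *
      (a * S.s (x1 hφ hK 0 (zeta φ t t')) * a⁻¹)⁻¹ = a * (F t t' * (s (zeta φ t t'))⁻¹) * a⁻¹ by
        simp only [F, s]; group, E.ker_central (hk t t') a, mul_inv_cancel_right]
  have hF : ∀ t t', F t t' = s (zeta φ t t') := fun t t' => by
    have h0 := congrArg (fun c' : K →+ K →+ Additive E.proj.ker => ((c' t t').toMul : E.proj.ker)) hc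
    exact mul_inv_eq_one.1 (congrArg Subtype.val h0)
  let Sg : Subgroup X :=
    (MonoidHom.mk' (fun y : Yl hφ hK [28, 30] => S.s y) fun a b => S.s_mul _ a.2 _ b.2).range
  have hle : ⁅E.pre (Yl hφ hK (ray 7)), E.pre (Yl hφ hK (ray 7))⁆ ≤ Sg := by
    rw [Subgroup.commutator_le]
    intro a ha b hb
    obtain ⟨t, u, e1⟩ := exists_x1_Yl hφ hK ha
    obtain ⟨t', u', e2⟩ := exists_x1_Yl hφ hK hb
    exact ⟨⟨_, x1_Z hφ hK (zeta φ t t')⟩, by
      rw [E.cm_eq e1 e2, cm_x1_indep hφ hK hm E]; exact (hF t t').symm⟩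
  intro z hz h1
  obtain ⟨⟨y, hy⟩, rfl⟩ := hle hz
  have : y = 1 := (S.proj_s y hy).symm.trans h1
  subst this
  exact S.s_one

theorem ι_word : ∀ w : List (Fin 2), (fold φ).ι ((w.map (fold φ).gens).prod) =
    Weyl.wOf (QD K).X.M (w.flatMap F4.word)
  | [] => map_one _
  | j :: w => by
    show (fold φ).ι ((fold φ).gens j * (w.map (fold φ).gens).prod) = _
    rw [map_mul, ι_word w, List.flatMap_cons]
    refine (congrArg (· * _) ((fold φ).ι_gens j)).trans ?_
    simp only [Weyl.wOf, List.map_append, List.prod_append]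
    rfl

include hm in
theorem killed_ray (a : Fin 8) : E.Killed (Yl hφ hK (ray a)) := by
  have hb : E.Killed (Yl hφ hK (ray (if a.val % 2 = 0 then 0 else 7))) := by
    split_ifs
    exacts [killed_ray0 hφ hK hm E, killed_ray7 hφ hK hm E]
  refine killed_of_conj ((Md hφ hK).tw.n (((wseq a).map (fold φ).gens).prod)) hb fun y hy => ?_
  obtain ⟨k, hk, e⟩ := lift_n (Md hφ hK) (((wseq a).map (fold φ).gens).prod)
  rw [mem_Yl, lift_mul, lift_mul, lift_inv, e, ι_word]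
  refine conj_mem_XS (fun r hr t => ?_) hy
  have hr' := List.mem_toFinset.1 hr
  have hlt : r < chevF4.nroots := (show ∀ a : Fin 8, ∀ r ∈ ray a, r < chevF4.nroots by decide +kernel) a r hr'
  obtain ⟨t', e1⟩ := (QD K).sys.rep_conj (Weyl.wOf (QD K).X.M ((wseq a).flatMap F4.word)) r hlt t
  obtain ⟨t'', e2⟩ := (QD K).sys.h_conj k hk _ (Fin.isLt ((QD K).X.good.hom
    (Weyl.wOf (QD K).X.M ((wseq a).flatMap F4.word)) ⟨r, hlt⟩)) t'
  show k * (QD K).sys.rep _ * (QD K).sys.x r t * (k * (QD K).sys.rep _)⁻¹ ∈ _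
  rw [show ∀ n x : ↥(chevF4.group K), k * n * x * (k * n)⁻¹ = k * (n * x * n⁻¹) * k⁻¹ from
    fun n x => by group, e1, e2]
  refine x_mem_XS (Finset.mem_coe.2 (List.mem_toFinset.2 ?_)) _
  rw [(QD K).X.good.hom_wOf_val]
  · exact wseq_ok a r hr'
  · exact (show ∀ a : Fin 8, ∀ i ∈ (wseq a).flatMap F4.word, i < 4 by decide +kernel) a

end

end Cfsg.Agent.H40.Ree
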