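import Cfsg.Agent.H40.Ree.Levi
import Cfsg.Agent.Linear.Mult.Killed

/-!
A rank one subgroup of a split Tits system of characteristic two with a faithful looking
representation onto a perfect group whose multiplier is a `2`-group is isomorphic to it.
-/

set_option autoImplicit false
set_option linter.unusedSectionVars false

namespace Cfsg.Agent.H40.Ree

open Cfsg.Agent.H28 Cfsg.Agent.H54.BNC Cfsg.Agent.H13.Split Cfsg.Agent.H74.RootExt
open Cfsg.Agent.Linear.Mult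
open Cfsg.Agent.H37 (Tits.Ambient)
open Subgroup

universe u

/-- No stem extension has kernel elements of odd prime order. -/
def OddRigid (S : Type u) [Group S] : Prop :=
  ∀ (Γ : Type u) [Group Γ] [Finite Γ] (σ : Γ →* S), Cfsg.IsStemExtension σ →
    ∀ l : ℕ, l.Prime → l ≠ 2 → ∀ z ∈ σ.ker, z ^ l = 1 → z = 1

theorem OddRigid.noStem {S : Type u} [Group S] (h : OddRigid S) {l : ℕ} (hl : l.Prime)
    (hl2 : l ≠ 2) : NoStem l S := by
  intro Γ _ _ σ hσ hcard
  haveI := Fact.mk hl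
  obtain ⟨z, hz⟩ := exists_prime_orderOf_dvd_card' (G := σ.ker) l (by rw [hcard])
  have h1 : (z : Γ) = 1 := h Γ σ hσ l hl hl2 z z.2 (by
    rw [← SubmonoidClass.coe_pow, ← hz, pow_orderOf_eq_one]; rfl)
  rw [show z = 1 from Subtype.ext h1, orderOf_one] at hz
  exact hl.one_lt.ne hz

theorem oddRigid_of_trivial {S : Type u} [Group S] [Finite S]
    (h : Cfsg.HasCyclicSchurMultiplier S 1) : OddRigid S := by
  intro Γ _ _ σ hσ l _ _ z hz _
  rw [H50.hasTrivialMultiplier_iff.1 h Γ σ hσ] at hz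
  exact Subgroup.mem_bot.1 hz

variable {G : Type u} {W : Type*} [Group G] [Group W] {A : Tits.Ambient G W} {s w₀ : W} [Finite G]

theorem H_le_levi {hs : s ∈ A.S} : A.H ≤ levi A hs w₀ := fun h hh =>
  ⟨Or.inl (A.H_le_B hh), Or.inl (A.H_le_B (A.n_conj_H _ h hh))⟩

variable (A) in
/-- The group generated by the root group and its opposite. -/
def rk (s : W) : Subgroup G :=
  A.Uw s ⊔ (A.Uw s).map (MulAut.conj (A.n s)).toMonoidHom

theorem Uw_le_rk : A.Uw s ≤ rk A s := le_sup_left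

theorem n_conj_mem_rk {x : G} (hx : x ∈ A.Uw s) : A.n s * x * (A.n s)⁻¹ ∈ rk A s :=
  mem_sup_right ⟨x, hx, rfl⟩

theorem rk_le_levi (hA : SBase A 2 w₀) (hcen : s * w₀ = w₀ * s) (hs : s ∈ A.S) :
    rk A s ≤ levi A hs w₀ := by
  refine sup_le (Uw_le_levi hA hcen hs) ?_
  rintro _ ⟨x, hx, rfl⟩
  exact mul_mem (mul_mem (n_mem_levi hA hcen hs) (Uw_le_levi hA hcen hs hx))
    (inv_mem (n_mem_levi hA hcen hs))

theorem rankone (hA : SBase A 2 w₀) (hcen : s * w₀ = w₀ * s) (hs : s ∈ A.S) {S : Type u} [Group S] [Finite S]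
    (hS : commutator S = ⊤) (hrig : OddRigid S) (ρ : rk A s →* S) (hρ : Function.Surjective ρ)
    (hinjU : ∀ a : rk A s, (a : G) ∈ A.Uw s → ρ a = 1 → a = 1)
    (hinjV : ∀ a : rk A s, (A.n s)⁻¹ * a * A.n s ∈ A.Uw s → ρ a = 1 → a = 1)
    (hne : ∃ a : rk A s, (a : G) ∈ A.Uw s ∧
      ∀ b : rk A s, (A.n s)⁻¹ * b * A.n s ∈ A.Uw s → ρ a ≠ ρ b)
    (hnorm : ∀ a : rk A s, (a : G) ∈ A.Uw s →
      (∀ b : rk A s, (A.n s)⁻¹ * b * A.n s ∈ A.Uw s → ∃ b' : rk A s, (A.n s)⁻¹ * b' * A.n s ∈ A.Uw s ∧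
        ρ a * ρ b * (ρ a)⁻¹ = ρ b') → ρ a = 1)
    {l : ℕ} (hl : l.Prime) (hl2 : l ≠ 2) {X : Type u} [Group X] [Finite X] (E : LExt l X G) :
    E.Killed (rk A s) ∧ AbCoprime l (rk A s) := by
  have hU : A.Uw s ≤ (rk A s) := Uw_le_rk
  have hlevi : (rk A s) ≤ levi A hs w₀ := rk_le_levi hA hcen hs
  have hVc : ∀ g : G, (∀ y ∈ A.Uw s, g * y * g⁻¹ ∈ A.Uw s) → ∀ b : G,
      (A.n s)⁻¹ * b * A.n s ∈ A.Uw s → (A.n s)⁻¹ * (A.n s * g * (A.n s)⁻¹ * b *
        (A.n s * g * (A.n s)⁻¹)⁻¹) * A.n s ∈ A.Uw s := by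
    intro g hg b hb
    rw [show (A.n s)⁻¹ * (A.n s * g * (A.n s)⁻¹ * b * (A.n s * g * (A.n s)⁻¹)⁻¹) * A.n s =
      g * ((A.n s)⁻¹ * b * A.n s) * g⁻¹ by group]
    exact hg _ hb
  have hVH : ∀ h ∈ A.H, ∀ b : G, (A.n s)⁻¹ * b * A.n s ∈ A.Uw s →
      (A.n s)⁻¹ * (h * b * h⁻¹) * A.n s ∈ A.Uw s := by
    intro h hh b hb
    have := hVc _ (fun y hy => hA.H_conj_Uw hs (A.n_conj_H' s hh) hy) b hb
    rwa [show A.n s * ((A.n s)⁻¹ * h * A.n s) * (A.n s)⁻¹ = h by group] at this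
  have hker : ∀ g : (rk A s), ρ g = 1 → (g : G) ∈ A.H := by
    intro g hg
    rcases levi_cases hA hcen hs (hlevi g.2) with ⟨x, hx, h, hh, e⟩ | ⟨x, hx, h, hh, v, hv, e⟩
    · have hxL : x ∈ (rk A s) := hU hx
      have hhL : h ∈ (rk A s) := by
        have := mul_mem (inv_mem hxL) g.2
        rwa [e, inv_mul_cancel_left] at this
      have e' : g = (⟨x, hxL⟩ : (rk A s)) * ⟨h, hhL⟩ := Subtype.ext e
      have h1 : ρ (⟨h, hhL⟩ : (rk A s)) = (ρ ⟨x, hxL⟩)⁻¹ := by
        rw [e', map_mul] at hg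
        exact eq_inv_of_mul_eq_one_right hg
      have hx1 : (⟨x, hxL⟩ : (rk A s)) = 1 := by
        refine hinjU _ hx ?_
        rw [← inv_eq_one, ← h1]
        rw [← map_inv] at h1
        rw [h1]
        refine hnorm _ (inv_mem hx) fun b hb => ⟨⟨h, hhL⟩ * b * (⟨h, hhL⟩ : (rk A s))⁻¹,
          hVH h hh b hb, ?_⟩
        simp only [map_mul, map_inv, h1]
      have hx1' : x = 1 := congrArg Subtype.val hx1
      rw [e, hx1', one_mul]
      exact hh
    · exfalso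
      have hxL : x ∈ (rk A s) := hU hx
      have hvL : v ∈ (rk A s) := hU hv
      have hmL : h * A.n s ∈ (rk A s) := by
        have := mul_mem (mul_mem (inv_mem hxL) g.2) (inv_mem hvL)
        rwa [e, show x⁻¹ * (x * h * A.n s * v) * v⁻¹ = h * A.n s by group] at this
      have e' : g = (⟨x, hxL⟩ : (rk A s)) * ⟨_, hmL⟩ * ⟨v, hvL⟩ := Subtype.ext (by
        show (g : G) = x * (h * A.n s) * v
        rw [e]; group)
      obtain ⟨a, ha, hane⟩ := hne
      set M : (rk A s) := ⟨_, hmL⟩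
      have hM : ρ M = (ρ (⟨v, hvL⟩ * ⟨x, hxL⟩ : (rk A s)))⁻¹ := by
        rw [e', map_mul, map_mul] at hg
        rw [map_mul, mul_inv_rev, eq_inv_mul_iff_mul_eq]
        exact eq_inv_of_mul_eq_one_left hg
      set w : (rk A s) := ⟨v, hvL⟩ * ⟨x, hxL⟩
      have hw : (w : G) ∈ A.Uw s := mul_mem hv hx
      refine hane (M * (w * a * w⁻¹) * M⁻¹) ?_ ?_
      · show (A.n s)⁻¹ * (h * A.n s * ((w : G) * a * (w : G)⁻¹) * (h * A.n s)⁻¹) * A.n s ∈ A.Uw s
        have := hVH h hh (A.n s * ((w : G) * a * (w : G)⁻¹) * (A.n s)⁻¹) (by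
          rw [show (A.n s)⁻¹ * (A.n s * ((w : G) * a * (w : G)⁻¹) * (A.n s)⁻¹) * A.n s =
            (w : G) * a * (w : G)⁻¹ by group]
          exact mul_mem (mul_mem hw ha) (inv_mem hw))
        rwa [show h * (A.n s * ((w : G) * a * (w : G)⁻¹) * (A.n s)⁻¹) * h⁻¹ =
          h * A.n s * ((w : G) * a * (w : G)⁻¹) * (h * A.n s)⁻¹ by group] at this
      · simp only [map_mul, map_inv, hM]
        group
  have hcomm : ∀ g : (rk A s), ρ g = 1 → ∀ a : rk A s, Commute g a := by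
    intro g hg a
    have hgH := hker g hg
    have hUc : ∀ a : rk A s, (a : G) ∈ A.Uw s → Commute g a := fun a ha => by
      rw [← commutatorElement_eq_one_iff_commute]
      refine hinjU _ ?_ (by rw [map_commutatorElement, hg, commutatorElement_one_left])
      exact mul_mem (hA.H_conj_Uw hs hgH ha) (inv_mem ha)
    have hVc' : ∀ a : rk A s, (A.n s)⁻¹ * a * A.n s ∈ A.Uw s → Commute g a := fun a ha => by
      rw [← commutatorElement_eq_one_iff_commute]
      refine hinjV _ ?_ (by rw [map_commutatorElement, hg, commutatorElement_one_left])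
      show (A.n s)⁻¹ * ((g : G) * a * (g : G)⁻¹ * (a : G)⁻¹) * A.n s ∈ A.Uw s
      rw [show (A.n s)⁻¹ * ((g : G) * a * (g : G)⁻¹ * (a : G)⁻¹) * A.n s =
        ((A.n s)⁻¹ * ((g : G) * a * (g : G)⁻¹) * A.n s) * ((A.n s)⁻¹ * a * A.n s)⁻¹ by group]
      exact mul_mem (hVH _ hgH _ ha) (inv_mem ha)
    have hle : (rk A s) ≤ Subgroup.centralizer {(g : G)} := by
      refine sup_le (fun x hx => ?_) ?_
      · rw [Subgroup.mem_centralizer_singleton_iff]
        exact (congrArg Subtype.val (hUc ⟨x, hU hx⟩ hx).eq).symm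
      · rintro _ ⟨x, hx, rfl⟩
        rw [Subgroup.mem_centralizer_singleton_iff]
        exact (congrArg Subtype.val (hVc' ⟨_, n_conj_mem_rk hx⟩ (by
          show (A.n s)⁻¹ * (A.n s * x * (A.n s)⁻¹) * A.n s ∈ A.Uw s
          rwa [show (A.n s)⁻¹ * (A.n s * x * (A.n s)⁻¹) * A.n s = x by group])).eq).symm
    exact Subtype.ext (Subgroup.mem_centralizer_singleton_iff.1 (hle a.2)).symm
  -- perfection
  have hcenK : ρ.ker ≤ Subgroup.center (rk A s) := fun g hg =>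
    Subgroup.mem_center_iff.2 fun a => (hcomm g hg a).eq.symm
  have hodd : ∀ g : (rk A s), ρ g = 1 → g ^ Nat.card A.H = 1 := fun g hg => Subtype.ext (by
    show (g : G) ^ Nat.card A.H = 1
    exact congrArg Subtype.val (pow_card_eq_one' (x := (⟨_, hker g hg⟩ : A.H))))
  have hperf : commutator (rk A s) = ⊤ := by
    set D := commutator (rk A s)
    have hD : D.map ρ = ⊤ := by
      rw [show D = ⁅(⊤ : Subgroup (rk A s)), ⊤⁆ from rfl, map_commutator, map_top_of_surjective ρ hρ]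
      exact hS
    have hev : ∀ a : (rk A s), (∃ k : ℕ, (a : G) ^ 2 ^ k = 1) → a ∈ D := by
      rintro a ⟨k, hk⟩
      obtain ⟨d, hd, e⟩ : ρ a ∈ D.map ρ := by rw [hD]; trivial
      set c := d⁻¹ * a with hc
      have hc1 : ρ c = 1 := by rw [hc, map_mul, map_inv, e, inv_mul_cancel]
      have hac : a = d * c := by rw [hc, mul_inv_cancel_left]
      have h1 : a ^ Nat.card A.H ∈ D := by
        rw [hac, ((hcomm c hc1 d).symm).mul_pow, hodd c hc1, mul_one]
        exact pow_mem hd _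
      have ha : a ^ 2 ^ k = 1 := Subtype.ext hk
      have hco : (2 ^ k).Coprime (Nat.card A.H) :=
        Nat.Coprime.pow_left _ (Nat.prime_two.coprime_iff_not_dvd.2 hA.pH)
      obtain ⟨e', he'⟩ := exists_pow_eq_self_of_coprime (x := a) (n := Nat.card A.H)
        (hco.symm.of_dvd_right (orderOf_dvd_of_pow_eq_one ha))
      rw [← he']
      exact pow_mem h1 _
    have hle : (rk A s) ≤ D.map (rk A s).subtype := by
      refine sup_le (fun x hx => ⟨⟨x, hU hx⟩, hev _ (hA.isP_U (A.Uw_le _ hx)), rfl⟩) ?_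
      rintro _ ⟨x, hx, rfl⟩
      exact ⟨⟨_, n_conj_mem_rk hx⟩, hev _ ((hA.isP_U (A.Uw_le _ hx)).conj _), rfl⟩
    refine eq_top_iff.2 fun a _ => ?_
    obtain ⟨d, hd, e⟩ := hle a.2
    rwa [← Subtype.ext (a1 := d) (a2 := a) e]
  -- faithfulness
  have hstem : Cfsg.IsStemExtension ρ := ⟨hρ, hcenK, by rw [hperf]; exact le_top⟩
  have hinj : ρ.ker = ⊥ := by
    by_contra hne
    have : Nat.card ρ.ker ≠ 1 := fun hh => hne (Subgroup.card_eq_one.1 hh)
    obtain ⟨r, hr, hrd⟩ := Nat.exists_prime_and_dvd this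
    haveI := Fact.mk hr
    obtain ⟨z, hz⟩ := exists_prime_orderOf_dvd_card' r hrd
    have hz1 : (z : (rk A s)) ^ r = 1 := by
      rw [← SubgroupClass.coe_pow, ← hz, pow_orderOf_eq_one]; rfl
    have hr2 : r ≠ 2 := fun h => hA.pH (by
      have h' : r ∣ Nat.card A.H := hz ▸ (by
        rw [← Subgroup.orderOf_coe]
        exact orderOf_dvd_of_pow_eq_one (hodd _ z.2))
      exact h ▸ h')
    have := hrig (rk A s) ρ hstem r hr hr2 z z.2 hz1
    rw [show z = 1 from Subtype.ext this, orderOf_one] at hz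
    exact hr.one_lt.ne hz
  let e : (rk A s) ≃* S := MulEquiv.ofBijective ρ ⟨(MonoidHom.ker_eq_bot_iff ρ).1 hinj, hρ⟩
  refine ⟨?_, abCoprime_of_perfect l ?_⟩
  · have h := E.killed_of_noStem (hrig.noStem hl hl2) ((rk A s).subtype.comp e.symm.toMonoidHom)
      (Subtype.val_injective.comp e.symm.injective)
    rwa [MonoidHom.range_comp, MonoidHom.range_eq_top.2 e.symm.surjective, ← MonoidHom.range_eq_map,
      Subgroup.range_subtype] at h
  · rw [← Subgroup.map_subtype_commutator, hperf, ← MonoidHom.range_eq_map, Subgroup.range_subtype]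

end Cfsg.Agent.H40.Ree
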