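import Cfsg.Agent.H40.Ree.Model
import Cfsg.Agent.Suzuki.Lie
import Cfsg.Agent.H50.GL4Cyclic
import Cfsg.Agent.Chevalley.SL2Hom
import Cfsg.Agent.Linear.Generation
import Cfsg.Agent.S2117

/-!
The rank one subgroups of `²F₄(q)` act on short strings of root vectors: they are `SL₂(q)` and `Sz(q)`.
-/

set_option autoImplicit false
set_option maxRecDepth 100000

namespace Cfsg.Agent.H40.Ree

open Cfsg.Lie Cfsg.Agent.H37 Cfsg.Agent.H37.RootSys Cfsg.Agent.H37.Twist Cfsg.Agent.H56.ChevAut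
open Cfsg.Agent.H56.TwAut Cfsg.Agent.H56.TwAut.F4 Cfsg.Agent.H37.Twist.F4
open Cfsg.Agent.H13.Split Cfsg.Agent.H74.RootExt Cfsg.Agent.Linear.Mult
open Cfsg.Agent.H87 (upMat lowMat)
open scoped Matrix

universe u

section Block

variable {I n : Type*} [Fintype I] [Fintype n] [DecidableEq I] [DecidableEq n] {R : Type*}
  [CommRing R] (f : n → I)

/-- Matrices preserving the coordinate subspace of the image of `f`. -/
def stabM : Submonoid (Matrix I I R) where
  carrier := {g | ∀ j i, i ∉ Set.range f → g i (f j) = 0}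
  one_mem' := fun j i hi => Matrix.one_apply_ne fun e => hi ⟨j, e.symm⟩
  mul_mem' := by
    intro g h hg hh j i hi
    rw [Matrix.mul_apply]
    refine Finset.sum_eq_zero fun k _ => ?_
    by_cases hk : k ∈ Set.range f
    · obtain ⟨a, rfl⟩ := hk; rw [hg a i hi, zero_mul]
    · rw [hh j k hk, mul_zero]

/-- The elements preserving the coordinate subspace in both directions. -/
def stabG : Subgroup (Matrix I I R)ˣ := (stabM (R := R) f).units

theorem res_mul (hf : Function.Injective f) (g : Matrix I I R) {h : Matrix I I R}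
    (hh : h ∈ stabM (R := R) f) :
    (g * h).submatrix f f = g.submatrix f f * h.submatrix f f := by
  ext a b
  rw [Matrix.submatrix_apply, Matrix.mul_apply, Matrix.mul_apply]
  symm
  refine Fintype.sum_of_injective f hf _ _ (fun k hk => ?_) fun c => rfl
  rw [hh b k hk, mul_zero]

/-- The action on the coordinate subspace. -/
def blockHom (hf : Function.Injective f) : stabG (R := R) f →* Matrix n n R where
  toFun g := ((g : (Matrix I I R)ˣ) : Matrix I I R).submatrix f f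
  map_one' := Matrix.submatrix_one _ hf
  map_mul' _ h := res_mul f hf _ h.2.1

end Block

/-- The roots on which the subgroup of type `B₂` acts naturally. -/
def v1 : Fin 4 → Fin 48 := ![37, 35, 34, 33]

/-- The roots on which the orbit of orthogonal roots acts naturally. -/
def v0 : Fin 2 → Fin 48 := ![26, 25]

/-- The positive root elements of type `B₂` as sums of matrix units. -/
def B1 : List (ℕ × List (Fin 4 × Fin 4)) :=
  [(25, [(1, 2)]), (27, [(0, 1), (2, 3)]), (28, [(0, 2), (1, 3)]), (30, [(0, 3)]),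
   (22, [(2, 1)]), (20, [(1, 0), (3, 2)]), (19, [(2, 0), (3, 1)]), (17, [(3, 0)])]

/-- The orbit of orthogonal roots as matrix units. -/
def B0 : List (ℕ × List (Fin 2 × Fin 2)) := [(24, [(0, 1)]), (23, [(1, 0)]), (33, []), (14, [])]

/-- The check of the action. -/
def actB {k : ℕ} (v : Fin k → Fin 48) (B : List (ℕ × List (Fin k × Fin k))) : Bool :=
  B.all fun p => decide (p.1 < 48) && (List.finRange k).all fun b =>
    decide ((v b).val ≠ p.1) && decide ((v b).val ≠ chevF4.negIdx.getD p.1 0) &&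
      (List.range 48).all fun u =>
        let l := chevF4.chainCoeff p.1 (v b).val u
        l.all (fun km => km.1 == 1) &&
          decide ((l.map Prod.snd).sum % 2 =
            if (List.finRange k).any (fun a => (v a).val == u && p.2.contains (a, b)) then 1 else 0)

theorem actB_ok : actB v1 B1 = true ∧ actB v0 B0 = true := by decide +kernel

theorem v_inj : Function.Injective v1 ∧ Function.Injective v0 := by decide

variable {K : Type u} [Field K] [Fintype K] [CharP K 2] {φ : K →+* K} {m : ℕ}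

omit [Fintype K] in
theorem int_cast_parity (z : ℤ) : (z : K) = ((z % 2 : ℤ) : K) := by
  conv_lhs => rw [← Int.emod_add_mul_ediv z 2]
  push_cast
  rw [two_eq (K := K), zero_mul, add_zero]

omit [Fintype K] in
theorem coeff_sum {l : List (ℕ × ℤ)} (h : ∀ km ∈ l, km.1 = 1) (t : K) :
    (l.map fun km => ((km.2 : ℤ) : K) * t ^ km.1).sum = (((l.map Prod.snd).sum : ℤ) : K) * t := by
  induction l with
  | nil => simp
  | cons a l ih =>
    rw [List.map_cons, List.sum_cons, List.map_cons, List.sum_cons,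
      ih fun km hk => h km (List.mem_cons_of_mem _ hk), h a (by simp), pow_one]
    push_cast
    ring

/-- The matrix of a root element on the string. -/
def rootMat {k : ℕ} (p : List (Fin k × Fin k)) (t : K) : Matrix (Fin k) (Fin k) K :=
  Matrix.of fun a b => (if a = b then 1 else 0) + if (a, b) ∈ p then t else 0

theorem root_act {k : ℕ} {v : Fin k → Fin 48} (hv : Function.Injective v)
    {B : List (ℕ × List (Fin k × Fin k))} (hB : actB v B = true)
    {r : ℕ} {p : List (Fin k × Fin k)} (hp : (r, p) ∈ B) (t : K) :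
    ((xe r t : ↥(chevF4.group K)) : GL chevF4.Idx K) ∈
        stabG (R := K) (fun a : Fin k => (Sum.inr (v a) : chevF4.Idx)) ∧
      (((xe r t : ↥(chevF4.group K)) : GL chevF4.Idx K) : Matrix chevF4.Idx chevF4.Idx K).submatrix
          (fun a : Fin k => (Sum.inr (v a) : chevF4.Idx)) (fun a => Sum.inr (v a)) = rootMat p t := by
  have hr : r < 48 := by
    have := List.all_eq_true.1 hB _ hp
    simp only [Bool.and_eq_true, decide_eq_true_eq] at this
    exact this.1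
  have hent : ∀ (s : K) (b : Fin k), (∀ i : Fin chevF4.rank,
      chevF4.x K r s (Sum.inl i) (Sum.inr (v b)) = 0) ∧ ∀ u : Fin 48,
      chevF4.x K r s (Sum.inr u) (Sum.inr (v b)) = (if u = v b then 1 else 0) +
        if (List.finRange k).any (fun a => (v a).val == u.val && p.contains (a, b)) then s else 0 := by
    intro s b
    have h := List.all_eq_true.1 hB _ hp
    simp only [Bool.and_eq_true, decide_eq_true_eq, List.all_eq_true] at h
    obtain ⟨⟨h1, h2⟩, h3⟩ := h.2 b (List.mem_finRange b)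
    have n1 : (v b : Fin chevF4.nroots) ≠ ⟨r, hr⟩ := fun e => h1 (congrArg Fin.val e)
    refine ⟨fun i => ?_, fun u => ?_⟩
    · rw [ChevalleyDatum.x, dif_pos (show r < chevF4.nroots from hr)]
      simp only [ChevalleyDatum.xMat, Matrix.of_apply]
      exact (if_neg n1).trans (if_neg h2)
    · obtain ⟨h4, h5⟩ := h3 u.val (List.mem_range.2 u.isLt)
      rw [ChevalleyDatum.x, dif_pos (show r < chevF4.nroots from hr)]
      simp only [ChevalleyDatum.xMat, Matrix.of_apply]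
      refine (if_neg n1).trans ((if_neg h2).trans ?_)
      refine congrArg₂ _ rfl ?_
      rw [coeff_sum (fun km hk => by simpa using h4 km hk), int_cast_parity, h5]
      by_cases hq : ((List.finRange k).any fun a => (v a).val == u.val && p.contains (a, b)) = true
      · rw [if_pos hq, if_pos hq, Int.cast_one, one_mul]
      · rw [if_neg hq, if_neg hq, Int.cast_zero, zero_mul]
  have hmem : ∀ s : K, chevF4.x K r s ∈
      stabM (R := K) (fun a : Fin k => (Sum.inr (v a) : chevF4.Idx)) := by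
    intro s j i hi
    rcases i with i | u
    · exact (hent s j).1 i
    · refine ((hent s j).2 u).trans ?_
      refine (congrArg₂ (· + ·) (if_neg fun e => hi ⟨j, congrArg Sum.inr (Eq.symm e)⟩)
        (if_neg ?_)).trans (add_zero 0)
      intro h
      obtain ⟨a, -, ha⟩ := List.any_eq_true.1 h
      simp only [Bool.and_eq_true, beq_iff_eq] at ha
      exact hi ⟨a, congrArg Sum.inr (Fin.ext ha.1)⟩
  refine ⟨⟨hmem t, hmem (-t)⟩, ?_⟩
  ext a b
  refine ((hent t b).2 (v a)).trans ?_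
  rw [rootMat, Matrix.of_apply]
  congr 1
  · simp only [hv.eq_iff]
  · refine if_congr ?_ rfl rfl
    rw [List.any_eq_true]
    constructor
    · rintro ⟨c, -, hc⟩
      simp only [Bool.and_eq_true, beq_iff_eq, List.contains_iff_mem] at hc
      exact hv (Fin.ext hc.1) ▸ hc.2
    · intro h
      exact ⟨a, List.mem_finRange a, by simpa using h⟩

/-- The coordinates. -/
def f1 : Fin 4 → chevF4.Idx := fun a => Sum.inr (v1 a)

/-- The coordinates. -/
def f0 : Fin 2 → chevF4.Idx := fun a => Sum.inr (v0 a)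

theorem f_inj : Function.Injective f1 ∧ Function.Injective f0 :=
  ⟨fun _ _ h => v_inj.1 (Sum.inr.inj h), fun _ _ h => v_inj.2 (Sum.inr.inj h)⟩

omit [Fintype K] [CharP K 2] in
theorem rootMat_one {k : ℕ} (t : K) : rootMat ([] : List (Fin k × Fin k)) t = 1 := by
  ext a b; simp [rootMat, Matrix.one_apply]

section

variable (hφ : ∀ t, φ t = t ^ 2 ^ m) (hK : Fintype.card K = 2 ^ (2 * m + 1))

include hφ in
omit [Fintype K] [CharP K 2] in
theorem th_eq (z : K) : Suzuki.th m z = φ z ^ 2 := by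
  rw [Suzuki.th, hφ, ← pow_mul, pow_succ]

theorem x1_act (t c : K) : ∃ h : (x1 hφ hK t c : GL chevF4.Idx K) ∈ stabG (R := K) f1,
    blockHom f1 f_inj.1 ⟨_, h⟩ = Suzuki.uMat m (φ t) (c + t * φ t) := by
  have a := @root_act K _ _ _ 4 v1 v_inj.1 B1 actB_ok.1
  obtain ⟨m1, e1⟩ := a (r := 25) (p := [(1, 2)]) (by simp [B1]) t
  obtain ⟨m2, e2⟩ := a (r := 27) (p := [(0, 1), (2, 3)]) (by simp [B1]) (φ t)
  obtain ⟨m3, e3⟩ := a (r := 28) (p := [(0, 2), (1, 3)]) (by simp [B1]) c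
  obtain ⟨m4, e4⟩ := a (r := 30) (p := [(0, 3)]) (by simp [B1]) (t * φ t ^ 2 + φ c ^ 2)
  have hg : (x1 hφ hK t c : GL chevF4.Idx K) ∈ stabG (R := K) f1 :=
    mul_mem (mul_mem m1 m2) (mul_mem m3 m4)
  refine ⟨hg, ?_⟩
  show blockHom f1 f_inj.1 ((⟨_, m1⟩ * ⟨_, m2⟩ * (⟨_, m3⟩ * ⟨_, m4⟩) : stabG (R := K) f1)) = _
  rw [map_mul, map_mul, map_mul]
  change _ * _ * (_ * _) = _
  rw [show blockHom f1 f_inj.1 ⟨_, m1⟩ = _ from e1, show blockHom f1 f_inj.1 ⟨_, m2⟩ = _ from e2,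
    show blockHom f1 f_inj.1 ⟨_, m3⟩ = _ from e3, show blockHom f1 f_inj.1 ⟨_, m4⟩ = _ from e4]
  have hθ := theta hφ hK
  have h2 := two_eq (K := K)
  ext i j
  fin_cases i <;> fin_cases j <;>
    simp [rootMat, Suzuki.uMat, Suzuki.ovf, th_eq hφ, Matrix.mul_apply, Fin.sum_univ_four, hθ]
  all_goals first
    | ring1
    | linear_combination (-(t * φ t)) * h2
    | linear_combination (t * φ t) * h2
    | linear_combination (-(t * φ t ^ 2)) * h2
    | linear_combination (t * φ t ^ 2) * h2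
    | linear_combination (-(φ t ^ 2)) * hθ t + (-(t * φ t ^ 2) - φ t * φ c * φ (φ t)) * h2

theorem y1_act (t c : K) : ∃ h : (y1 hφ hK t c : GL chevF4.Idx K) ∈ stabG (R := K) f1,
    blockHom f1 f_inj.1 ⟨_, h⟩ = !![0, 0, 0, 1; 0, 0, 1, 0; 0, 1, 0, 0; 1, 0, 0, 0] *
      Suzuki.uMat m (φ t) (c + t * φ t) * !![0, 0, 0, 1; 0, 0, 1, 0; 0, 1, 0, 0; 1, 0, 0, 0] := by
  have a := @root_act K _ _ _ 4 v1 v_inj.1 B1 actB_ok.1
  obtain ⟨m1, e1⟩ := a (r := 22) (p := [(2, 1)]) (by simp [B1]) t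
  obtain ⟨m2, e2⟩ := a (r := 20) (p := [(1, 0), (3, 2)]) (by simp [B1]) (φ t)
  obtain ⟨m3, e3⟩ := a (r := 19) (p := [(2, 0), (3, 1)]) (by simp [B1]) c
  obtain ⟨m4, e4⟩ := a (r := 17) (p := [(3, 0)]) (by simp [B1]) (t * φ t ^ 2 + φ c ^ 2)
  have hg : (y1 hφ hK t c : GL chevF4.Idx K) ∈ stabG (R := K) f1 :=
    mul_mem (mul_mem m1 m2) (mul_mem m3 m4)
  refine ⟨hg, ?_⟩
  show blockHom f1 f_inj.1 ((⟨_, m1⟩ * ⟨_, m2⟩ * (⟨_, m3⟩ * ⟨_, m4⟩) : stabG (R := K) f1)) = _
  rw [map_mul, map_mul, map_mul]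
  rw [show blockHom f1 f_inj.1 ⟨_, m1⟩ = _ from e1, show blockHom f1 f_inj.1 ⟨_, m2⟩ = _ from e2,
    show blockHom f1 f_inj.1 ⟨_, m3⟩ = _ from e3, show blockHom f1 f_inj.1 ⟨_, m4⟩ = _ from e4]
  have hθ := theta hφ hK
  have h2 := two_eq (K := K)
  ext i j
  fin_cases i <;> fin_cases j <;>
    simp [rootMat, Suzuki.uMat, Suzuki.ovf, th_eq hφ, Matrix.mul_apply, Fin.sum_univ_four, hθ]
  all_goals first
    | ring1
    | linear_combination (-(t * φ t)) * h2
    | linear_combination (t * φ t) * h2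
    | linear_combination (-(t * φ t ^ 2)) * h2
    | linear_combination (t * φ t ^ 2) * h2
    | linear_combination (-(φ t ^ 2)) * hθ t + (-(t * φ t ^ 2) - φ t * φ c * φ (φ t)) * h2

theorem x0_act (t : K) : ∃ h : (x0 hφ hK t : GL chevF4.Idx K) ∈ stabG (R := K) f0,
    blockHom f0 f_inj.2 ⟨_, h⟩ = !![1, t; 0, 1] := by
  have a := @root_act K _ _ _ 2 v0 v_inj.2 B0 actB_ok.2
  obtain ⟨m1, e1⟩ := a (r := 33) (p := []) (by simp [B0]) (φ t)
  obtain ⟨m2, e2⟩ := a (r := 24) (p := [(0, 1)]) (by simp [B0]) t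
  refine ⟨mul_mem m1 m2, ?_⟩
  show blockHom f0 f_inj.2 ((⟨_, m1⟩ * ⟨_, m2⟩ : stabG (R := K) f0)) = _
  rw [map_mul, show blockHom f0 f_inj.2 ⟨_, m1⟩ = _ from e1,
    show blockHom f0 f_inj.2 ⟨_, m2⟩ = _ from e2, rootMat_one, one_mul]
  ext i j
  fin_cases i <;> fin_cases j <;> simp [rootMat]

theorem y0_act (t : K) : ∃ h : (y0 hφ hK t : GL chevF4.Idx K) ∈ stabG (R := K) f0,
    blockHom f0 f_inj.2 ⟨_, h⟩ = !![1, 0; t, 1] := by
  have a := @root_act K _ _ _ 2 v0 v_inj.2 B0 actB_ok.2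
  obtain ⟨m1, e1⟩ := a (r := 14) (p := []) (by simp [B0]) (φ t)
  obtain ⟨m2, e2⟩ := a (r := 23) (p := [(1, 0)]) (by simp [B0]) t
  refine ⟨mul_mem m1 m2, ?_⟩
  show blockHom f0 f_inj.2 ((⟨_, m1⟩ * ⟨_, m2⟩ : stabG (R := K) f0)) = _
  rw [map_mul, show blockHom f0 f_inj.2 ⟨_, m1⟩ = _ from e1,
    show blockHom f0 f_inj.2 ⟨_, m2⟩ = _ from e2, rootMat_one, one_mul]
  ext i j
  fin_cases i <;> fin_cases j <;> simp [rootMat]

theorem opp0 {g : GT hφ hK}
    (hg : ((Md hφ hK).tw.n (sW φ 0))⁻¹ * g * (Md hφ hK).tw.n (sW φ 0) ∈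
      (Md hφ hK).tw.Uw (sW φ 0)) : ∃ t, g = y0 hφ hK t := by
  haveI := finiteGT hφ hK
  let F : K → (Md hφ hK).tw.Uw (sW φ 0) := fun t => ⟨_, y0_opp hφ hK t⟩
  have hF : Function.Injective F := fun a b e => y0_inj hφ hK (by
    have := congrArg Subtype.val e
    simpa [F] using this)
  have hc : Nat.card K = Nat.card ((Md hφ hK).tw.Uw (sW φ 0)) :=
    Nat.pow_left_injective two_ne_zero ((card_Uw hφ hK 0).trans (by simp)).symm
  obtain ⟨t, ht⟩ := ((Nat.bijective_iff_injective_and_card F).2 ⟨hF, hc⟩).2 ⟨_, hg⟩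
  have := congrArg Subtype.val ht
  exact ⟨t, (mul_left_cancel (mul_right_cancel this)).symm⟩

theorem y1_inj {t c t' c' : K} (h : y1 hφ hK t c = y1 hφ hK t' c') : t = t' ∧ c = c' := by
  obtain ⟨h1, e1⟩ := y1_act hφ hK t c
  obtain ⟨h2, e2⟩ := y1_act hφ hK t' c'
  have e : blockHom f1 f_inj.1 ⟨_, h1⟩ = blockHom f1 f_inj.1 ⟨_, h2⟩ :=
    congrArg _ (Subtype.ext (congrArg (fun g : GT hφ hK => (g : GL chevF4.Idx K)) h))
  rw [e1, e2] at e
  have hJ : (!![0, 0, 0, 1; 0, 0, 1, 0; 0, 1, 0, 0; 1, 0, 0, 0] : Matrix (Fin 4) (Fin 4) K) *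
      !![0, 0, 0, 1; 0, 0, 1, 0; 0, 1, 0, 0; 1, 0, 0, 0] = 1 := by
    ext i j; fin_cases i <;> fin_cases j <;> simp [Matrix.mul_apply, Fin.sum_univ_four]
  set J := (!![0, 0, 0, 1; 0, 0, 1, 0; 0, 1, 0, 0; 1, 0, 0, 0] : Matrix (Fin 4) (Fin 4) K)
  have e' := congrArg (fun M => J * M * J) e
  simp only [← mul_assoc, hJ, one_mul] at e'
  rw [mul_assoc _ J J, hJ, mul_one, mul_assoc _ J J, hJ, mul_one] at e'
  have ha : φ t = φ t' := by simpa [Suzuki.uMat] using congrFun (congrFun e' 0) 1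
  have hb : c + t * φ t = c' + t' * φ t' := by simpa [Suzuki.uMat] using congrFun (congrFun e' 1) 3
  have ht := φ.injective ha
  subst ht
  exact ⟨rfl, add_right_cancel hb⟩

theorem opp1 {g : GT hφ hK}
    (hg : ((Md hφ hK).tw.n (sW φ 1))⁻¹ * g * (Md hφ hK).tw.n (sW φ 1) ∈
      (Md hφ hK).tw.Uw (sW φ 1)) : ∃ t c, g = y1 hφ hK t c := by
  haveI := finiteGT hφ hK
  let F : K × K → (Md hφ hK).tw.Uw (sW φ 1) := fun p => ⟨_, y1_opp hφ hK p.1 p.2⟩
  have hF : Function.Injective F := fun a b e => by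
    have := congrArg Subtype.val e
    simp only [F, mul_left_inj, mul_right_inj] at this
    obtain ⟨h1, h2⟩ := y1_inj hφ hK this
    exact Prod.ext h1 h2
  have hc : Nat.card (K × K) = Nat.card ((Md hφ hK).tw.Uw (sW φ 1)) := by
    refine Nat.pow_left_injective two_ne_zero ?_
    show _ ^ 2 = _ ^ 2
    rw [card_Uw hφ hK 1, Nat.card_prod]
    simp only [show (1 : Fin 2) ≠ 0 by decide, if_false]
    ring
  obtain ⟨p, hp⟩ := ((Nat.bijective_iff_injective_and_card F).2 ⟨hF, hc⟩).2 ⟨_, hg⟩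
  have := congrArg Subtype.val hp
  exact ⟨p.1, p.2, (mul_left_cancel (mul_right_cancel this)).symm⟩

theorem rk_le {i : Fin 2} {M : Subgroup (GT hφ hK)}
    (h1 : ∀ g ∈ (Md hφ hK).tw.Uw (sW φ i), g ∈ M)
    (h2 : ∀ g, ((Md hφ hK).tw.n (sW φ i))⁻¹ * g * (Md hφ hK).tw.n (sW φ i) ∈
      (Md hφ hK).tw.Uw (sW φ i) → g ∈ M) : Lsub hφ hK i ≤ M := by
  refine sup_le h1 ?_
  rintro _ ⟨x, hx, rfl⟩
  refine h2 _ ?_
  show ((Md hφ hK).tw.n (sW φ i))⁻¹ * ((Md hφ hK).tw.n (sW φ i) * x *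
    ((Md hφ hK).tw.n (sW φ i))⁻¹) * (Md hφ hK).tw.n (sW φ i) ∈ _
  rwa [show ∀ n a : GT hφ hK, n⁻¹ * (n * a * n⁻¹) * n = a from fun n a => by group]

omit hK in
theorem phi_bij (hφ : ∀ t, φ t = t ^ 2 ^ m) : Function.Bijective φ :=
  Finite.injective_iff_bijective.1 φ.injective

theorem oddRigid_suzuki [Suzuki.SzField K m] : OddRigid (Cfsg.Sz K m) := by
  intro Γ _ _ σ hσ l hl hl2 z hz hzl
  haveI := Fact.mk hl
  set q := Nat.card K with hq
  have hq2 : q = 2 ^ (2 * m + 1) := Suzuki.card_nat m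
  by_cases hd : l ∣ q ^ 2 + 1
  · obtain ⟨Q, hQ, hidx⟩ := H50.exists_cyclic_index_coprime (Cfsg.Lie.Sz K (2 ^ (m + 1))) l hl hl2
      (by rwa [← Nat.card_eq_fintype_card])
    set e := Suzuki.lieEquiv (F := K) m
    haveI : IsCyclic (Q.comap e.toMonoidHom) :=
      isCyclic_of_surjective (f := ((e.symm.toMonoidHom.comp Q.subtype).codRestrict (Q.comap e.toMonoidHom) fun g => by simp)) (by
        rintro ⟨g, hg⟩; exact ⟨⟨e g, hg⟩, Subtype.ext (e.symm_apply_apply g)⟩)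
    refine H50.eq_one_of_rigidAt hσ (Q.comap e.toMonoidHom) ?_ (H50.rigidAt_of_isCyclic l _) z hz hzl
    rwa [Subgroup.index_comap_of_surjective Q e.surjective]
  · obtain ⟨g, hg⟩ := IsCyclic.exists_ofOrder_eq_natCard (α := Kˣ)
    have hgt : orderOf (Suzuki.t m g) = q - 1 := by
      rw [orderOf_injective (Suzuki.t m) (Suzuki.t_injective (F := K) m), hg, Nat.card_units]
    refine H50.eq_one_of_rigidAt hσ (Subgroup.zpowers (Suzuki.t m g))
      ((Nat.Prime.coprime_iff_not_dvd hl).2 fun h => ?_) (H50.rigidAt_of_isCyclic l _) z hz hzl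
    have hc := (Subgroup.zpowers (Suzuki.t m g)).card_mul_index
    have hq1 : 2 ≤ q := hq2 ▸ (show 2 ^ 1 ≤ 2 ^ (2 * m + 1) from
      Nat.pow_le_pow_right two_pos (by omega))
    rw [Nat.card_zpowers, hgt, Suzuki.card_Sz, ← hq, mul_comm (q ^ 2), mul_assoc (q - 1)] at hc
    rw [Nat.eq_of_mul_eq_mul_left (by omega) hc] at h
    rcases hl.dvd_mul.1 h with h' | h'
    · rw [hq2, ← pow_mul] at h'
      exact hl2 ((Nat.prime_dvd_prime_iff_eq hl Nat.prime_two).1 (hl.dvd_of_dvd_pow h'))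
    · exact hd h'

theorem suzuki_generated [Suzuki.SzField K m] (M : Subgroup (Cfsg.Sz K m))
    (hu : ∀ a b, Suzuki.u m a b ∈ M)
    (hv : ∀ a b, Suzuki.w m * Suzuki.u m a b * Suzuki.w m ∈ M) : M = ⊤ := by
  let Sset : Set (Cfsg.Sz K m) :=
    {g | ∃ a b, g = Suzuki.u m a b} ∪ {g | ∃ a b, g = Suzuki.w m * Suzuki.u m a b * Suzuki.w m}
  set C := Subgroup.closure Sset
  have hle : C ≤ M := (Subgroup.closure_le _).2 (by
    rintro g (⟨a, b, rfl⟩ | ⟨a, b, rfl⟩)
    exacts [hu a b, hv a b])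
  refine eq_top_iff.2 (le_trans ?_ hle)
  have hC : ∀ g : Cfsg.Sz K m, (∀ s ∈ Sset, g * s * g⁻¹ ∈ C) →
      ∀ x ∈ C, g * x * g⁻¹ ∈ C := fun g hg x hx => by
    refine (show C ≤ C.comap (MulAut.conj g).toMonoidHom from (Subgroup.closure_le _).2 hg) hx
  let Nz : Submonoid (Cfsg.Sz K m) :=
    { carrier := {g | ∀ x ∈ C, g * x * g⁻¹ ∈ C}
      one_mem' := fun x hx => by simpa using hx
      mul_mem' := fun {a b} ha hb x hx => by
        have := ha _ (hb x hx)
        simpa [mul_assoc] using this }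
  have hmem : ∀ g, g ∈ Nz := by
    intro g
    let N' : Subgroup (Cfsg.Sz K m) :=
      { Nz with
        inv_mem' := fun {a} ha => by
          have e : a⁻¹ = a ^ (orderOf a - 1) := (eq_inv_of_mul_eq_one_left (by
            rw [← pow_succ, Nat.sub_add_cancel (orderOf_pos a), pow_orderOf_eq_one])).symm
          rw [e]
          exact pow_mem (show a ∈ Nz from ha) _ }
    refine Suzuki.mem_of_generators m (H := N') (fun a b x hx => ?_) (fun s => hC _ ?_) (hC _ ?_) g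
    · exact mul_mem (mul_mem (Subgroup.subset_closure (Or.inl ⟨a, b, rfl⟩)) hx)
        (inv_mem (Subgroup.subset_closure (Or.inl ⟨a, b, rfl⟩)))
    · rintro _ (⟨a, b, rfl⟩ | ⟨a, b, rfl⟩)
      · exact Subgroup.subset_closure (Or.inl ⟨_, _, Suzuki.t_u m s a b⟩)
      · refine Subgroup.subset_closure (Or.inr ⟨Suzuki.th m ((s⁻¹ : Kˣ) : K) * a, ((s⁻¹ : Kˣ) : K) ^ 2 * Suzuki.th m ((s⁻¹ : Kˣ) : K) * b, ?_⟩)
        rw [← Suzuki.t_u m s⁻¹ a b, ← Suzuki.w_t m s]
        simp only [mul_inv_rev, Suzuki.w_inv, inv_inv]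
        have key : ∀ x y z : Cfsg.Sz K m, Suzuki.w m * (Suzuki.w m * x * Suzuki.w m * y *
            (Suzuki.w m * (z * Suzuki.w m))) * Suzuki.w m = x * (Suzuki.w m * y * Suzuki.w m) * z := by
          intro x y z
          calc _ = (Suzuki.w m * Suzuki.w m) * (x * (Suzuki.w m * y * Suzuki.w m) * z) *
                (Suzuki.w m * Suzuki.w m) := by group
            _ = _ := by rw [Suzuki.w_mul_w, one_mul, mul_one]
        exact (key _ _ _).symm
    · rintro _ (⟨a, b, rfl⟩ | ⟨a, b, rfl⟩)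
      · rw [Suzuki.w_inv]
        exact Subgroup.subset_closure (Or.inr ⟨a, b, rfl⟩)
      · rw [Suzuki.w_inv, show Suzuki.w m * (Suzuki.w m * Suzuki.u m a b * Suzuki.w m) * Suzuki.w m =
          (Suzuki.w m * Suzuki.w m) * Suzuki.u m a b * (Suzuki.w m * Suzuki.w m) by group,
          Suzuki.w_mul_w, one_mul, mul_one]
        exact Subgroup.subset_closure (Or.inl ⟨a, b, rfl⟩)
  haveI : C.Normal := ⟨fun x hx g => hmem g x hx⟩
  rcases (Suzuki.isSimpleGroup (F := K) m).eq_bot_or_eq_top_of_normal C inferInstance with h | h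
  · exfalso
    have : Suzuki.u m (1 : K) 0 ∈ C := Subgroup.subset_closure (Or.inl ⟨1, 0, rfl⟩)
    rw [h, Subgroup.mem_bot, Suzuki.u_eq_one] at this
    exact one_ne_zero this.1
  · exact h.ge

theorem killed_L1 (hm : 1 ≤ m) {l : ℕ} (hl : l.Prime) (hl2 : l ≠ 2) {X : Type u} [Group X] [Finite X]
    (E : LExt l X (GT hφ hK)) :
    E.Killed (Lsub hφ hK 1) ∧ AbCoprime l (Lsub hφ hK 1) := by
  haveI := finiteGT hφ hK
  haveI : Suzuki.SzField K m := ⟨hK, hm⟩
  set st : Subgroup (GT hφ hK) :=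
    (stabG (R := K) f1).comap ((Md hφ hK).T.subtype) with hst
  have hL : Lsub hφ hK 1 ≤ st := rk_le hφ hK
    (fun g hg => by
      obtain ⟨t, c, rfl⟩ := exists_x1 hφ hK hg
      exact (x1_act hφ hK t c).1)
    (fun g hg => by
      obtain ⟨t, c, rfl⟩ := opp1 hφ hK hg
      exact (y1_act hφ hK t c).1)
  let β : Lsub hφ hK 1 →* Matrix (Fin 4) (Fin 4) K :=
    (blockHom f1 f_inj.1).comp (((Md hφ hK).T.subtype.comp (Lsub hφ hK 1).subtype).codRestrict
      (stabG (R := K) f1) fun g => hL g.2)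
  let ι : Cfsg.Sz K m →* Matrix (Fin 4) (Fin 4) K :=
    { toFun := fun g => ((g : Matrix.SpecialLinearGroup (Fin 4) K) : Matrix (Fin 4) (Fin 4) K)
      map_one' := rfl
      map_mul' := fun _ _ => rfl }
  have hι : Function.Injective ι := fun a b h => Subtype.ext (Subtype.ext h)
  have hx : ∀ t c, ∀ h, β ⟨x1 hφ hK t c, h⟩ = ι (Suzuki.u m (φ t) (c + t * φ t)) := fun t c h =>
    (x1_act hφ hK t c).2
  have hy : ∀ t c, ∀ h, β ⟨y1 hφ hK t c, h⟩ =
      ι (Suzuki.w m * Suzuki.u m (φ t) (c + t * φ t) * Suzuki.w m) := fun t c h =>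
    (y1_act hφ hK t c).2
  have hex : ∀ g : Lsub hφ hK 1, ∃ s, ι s = β g := by
    rintro ⟨g, hg⟩
    have hle : Lsub hφ hK 1 ≤
        { carrier := {g | ∃ h : g ∈ Lsub hφ hK 1, ∃ s, ι s = β ⟨g, h⟩}
          one_mem' := ⟨one_mem _, 1, by rw [map_one]; exact (map_one β).symm⟩
          mul_mem' := by
            rintro a b ⟨ha, s, es⟩ ⟨hb, t, et⟩
            exact ⟨mul_mem ha hb, s * t, by rw [map_mul, es, et, ← map_mul]; rfl⟩
          inv_mem' := by
            rintro a ⟨ha, s, es⟩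
            refine ⟨inv_mem ha, s⁻¹, ?_⟩
            have h1 : ι s⁻¹ * ι s = 1 := by rw [← map_mul, inv_mul_cancel, map_one]
            have h2 : β ⟨a, ha⟩ * β ⟨a⁻¹, inv_mem ha⟩ = 1 := by
              rw [← map_mul]
              exact (congrArg β (Subtype.ext (mul_inv_cancel a))).trans (map_one β)
            rw [← es] at h2
            exact left_inv_eq_right_inv h1 h2 : Subgroup (GT hφ hK) } := rk_le hφ hK
      (fun g hg => by
        obtain ⟨t, c, rfl⟩ := exists_x1 hφ hK hg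
        exact ⟨x1_mem_Lsub hφ hK t c, _, (hx t c _).symm⟩)
      (fun g hg => by
        obtain ⟨t, c, rfl⟩ := opp1 hφ hK hg
        exact ⟨y1_mem_Lsub hφ hK t c, _, (hy t c _).symm⟩)
    obtain ⟨_, s, es⟩ := hle hg
    exact ⟨s, es⟩
  choose r hr using hex
  let ρ : Lsub hφ hK 1 →* Cfsg.Sz K m := MonoidHom.mk' r fun a b =>
    hι (by rw [map_mul, hr, hr, hr, map_mul])
  have hρx : ∀ t c, ∀ h, ρ ⟨x1 hφ hK t c, h⟩ = Suzuki.u m (φ t) (c + t * φ t) := fun t c h =>
    hι ((hr _).trans (hx t c h))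
  have hρy : ∀ t c, ∀ h, ρ ⟨y1 hφ hK t c, h⟩ =
      Suzuki.w m * Suzuki.u m (φ t) (c + t * φ t) * Suzuki.w m := fun t c h =>
    hι ((hr _).trans (hy t c h))
  have hsol : ∀ a b : K, ∃ t c, φ t = a ∧ c + t * φ t = b := fun a b => by
    obtain ⟨t, rfl⟩ := (phi_bij hφ).2 a
    exact ⟨t, b - t * φ t, rfl, sub_add_cancel _ _⟩
  refine rankone (sbase hφ hK) (sW_cen hφ hK 1) (sW_mem hφ hK 1) (Suzuki.commutator_eq_top m)
    oddRigid_suzuki ρ ?_ ?_ ?_ ?_ ?_ hl hl2 E
  · refine MonoidHom.range_eq_top.1 (suzuki_generated _ (fun a b => ?_) fun a b => ?_)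
    · obtain ⟨t, c, rfl, rfl⟩ := hsol a b
      exact ⟨_, hρx t c (x1_mem_Lsub hφ hK t c)⟩
    · obtain ⟨t, c, rfl, rfl⟩ := hsol a b
      exact ⟨_, hρy t c (y1_mem_Lsub hφ hK t c)⟩
  · rintro ⟨a, haL⟩ ha h1
    obtain ⟨t, c, rfl⟩ := exists_x1 hφ hK ha
    rw [hρx, Suzuki.u_eq_one, map_eq_zero] at h1
    obtain ⟨rfl, h2⟩ := h1
    rw [zero_mul, add_zero] at h2
    subst h2
    exact Subtype.ext (x1_zero hφ hK)
  · rintro ⟨a, haL⟩ ha h1
    obtain ⟨t, c, rfl⟩ := opp1 hφ hK ha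
    rw [hρy] at h1
    have h2 : Suzuki.u m (φ t) (c + t * φ t) = 1 := by
      have h3 := congrArg (fun g => Suzuki.w m * g * Suzuki.w m) h1
      simp only [mul_one, Suzuki.w_mul_w] at h3
      rw [← h3, show ∀ w x : Cfsg.Sz K m, w * (w * x * w) * w = (w * w) * x * (w * w) from
        fun w x => by group, Suzuki.w_mul_w, one_mul, mul_one]
    rw [Suzuki.u_eq_one, map_eq_zero] at h2
    obtain ⟨rfl, h3⟩ := h2
    rw [zero_mul, add_zero] at h3
    subst h3
    refine Subtype.ext (lift_injective _ ?_)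
    show pr nc φ 0 0 = 1
    obtain ⟨-, -, -, -, -, -, -, -, hb, ha', hab, haab, -⟩ := four_ok nc (by simp)
    simp [pr, four, xe_zero hb, xe_zero ha', xe_zero hab, xe_zero haab]
  · refine ⟨⟨x1 hφ hK 1 0, x1_mem_Lsub hφ hK 1 0⟩, x1_mem hφ hK 1 0, ?_⟩
    rintro ⟨b, hbL⟩ hb he
    obtain ⟨t, c, rfl⟩ := opp1 hφ hK hb
    rw [hρx, hρy] at he
    have h1 := congrArg (fun g : Cfsg.Sz K m => g • Suzuki.oPt m (0 : K) 0) he
    simp only [mul_smul, Suzuki.w_smul_zero, Suzuki.u_smul_oInf, Suzuki.w_smul_oInf,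
      Suzuki.u_smul_oPt, Suzuki.oPt_inj] at h1
    simp at h1
  · rintro ⟨a, haL⟩ ha hN
    obtain ⟨t, c, rfl⟩ := exists_x1 hφ hK ha
    obtain ⟨⟨b, hbL⟩, hb, he⟩ := hN ⟨y1 hφ hK 1 0, y1_mem_Lsub hφ hK 1 0⟩ (y1_opp hφ hK 1 0)
    obtain ⟨t', c', rfl⟩ := opp1 hφ hK hb
    rw [hρx, hρy, hρy, mul_inv_eq_iff_eq_mul] at he
    rw [hρx]
    set α := φ t
    set β := c + t * φ t
    set γ := φ t'
    set δ := c' + t' * φ t'
    obtain ⟨x, y, hxy⟩ : ∃ x y, Suzuki.u m α β • Suzuki.oPt m (0 : K) 0 = Suzuki.oPt m x y :=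
      ⟨_, _, Suzuki.u_smul_oPt m α β 0 0⟩
    have hxy' := hxy
    rw [Suzuki.u_smul_oPt, Suzuki.oPt_inj] at hxy'
    by_contra hne
    have h0 : x ≠ 0 ∨ y ≠ 0 := by
      by_contra h
      push_neg at h
      refine hne ((Suzuki.u_eq_one m).2 ?_)
      obtain ⟨rfl, rfl⟩ := h
      constructor
      · simpa using hxy'.1
      · simpa [show α = 0 by simpa using hxy'.1] using hxy'.2
    have h1 := congrArg (fun g : Cfsg.Sz K m => g • Suzuki.oPt m (0 : K) 0) he
    simp only [mul_smul, Suzuki.w_smul_zero, Suzuki.u_smul_oInf, Suzuki.w_smul_oInf, hxy] at h1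
    have h2 := congrArg (fun p : suzukiOvoid K m => (Suzuki.w m : Cfsg.Sz K m) • p) h1
    simp only [← mul_smul (Suzuki.w m : Cfsg.Sz K m) (Suzuki.w m), Suzuki.w_mul_w, one_smul] at h2
    rw [Suzuki.w_smul_oPt m h0, Suzuki.u_smul_oPt, Suzuki.oPt_inj] at h2
    have hγ : γ = 0 := by simpa using h2.1.symm
    have hδ : δ = 0 := by simpa [hγ] using h2.2.symm
    rw [show Suzuki.u m γ δ = 1 from (Suzuki.u_eq_one m).2 ⟨hγ, hδ⟩, mul_one, Suzuki.w_mul_w] at he
    simp only [one_mul] at he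
    rw [mul_eq_left] at he
    have h3 := congrArg (fun g => Suzuki.w m * g * Suzuki.w m) he
    simp only [mul_one, Suzuki.w_mul_w] at h3
    rw [show ∀ w x : Cfsg.Sz K m, w * (w * x * w) * w = (w * w) * x * (w * w) from
      fun w x => by group, Suzuki.w_mul_w, one_mul, mul_one, Suzuki.u_eq_one, map_one] at h3
    exact one_ne_zero h3.1

theorem killed_L0 (hm : 1 ≤ m) {l : ℕ} (hl : l.Prime) (hl2 : l ≠ 2) {X : Type u} [Group X] [Finite X]
    (E : LExt l X (GT hφ hK)) :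
    E.Killed (Lsub hφ hK 0) ∧ AbCoprime l (Lsub hφ hK 0) := by
  haveI := finiteGT hφ hK
  haveI : DecidableEq K := Classical.decEq K
  set st : Subgroup (GT hφ hK) :=
    (stabG (R := K) f0).comap ((Md hφ hK).T.subtype) with hst
  have hL : Lsub hφ hK 0 ≤ st := rk_le hφ hK
    (fun g hg => by
      obtain ⟨t, rfl⟩ := exists_x0 hφ hK hg
      exact (x0_act hφ hK t).1)
    (fun g hg => by
      obtain ⟨t, rfl⟩ := opp0 hφ hK hg
      exact (y0_act hφ hK t).1)
  let β : Lsub hφ hK 0 →* Matrix (Fin 2) (Fin 2) K :=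
    (blockHom f0 f_inj.2).comp (((Md hφ hK).T.subtype.comp (Lsub hφ hK 0).subtype).codRestrict
      (stabG (R := K) f0) fun g => hL g.2)
  let ι : Matrix.SpecialLinearGroup (Fin 2) K →* Matrix (Fin 2) (Fin 2) K :=
    { toFun := fun g => (g : Matrix (Fin 2) (Fin 2) K)
      map_one' := rfl
      map_mul' := fun _ _ => rfl }
  have hι : Function.Injective ι := fun a b h => Subtype.ext h
  have hx : ∀ t, ∀ h, β ⟨x0 hφ hK t, h⟩ = ι (upMat t) := fun t h =>
    (x0_act hφ hK t).2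
  have hy : ∀ t, ∀ h, β ⟨y0 hφ hK t, h⟩ =
      ι (lowMat t) := fun t h =>
    (y0_act hφ hK t).2
  have hex : ∀ g : Lsub hφ hK 0, ∃ s, ι s = β g := by
    rintro ⟨g, hg⟩
    have hle : Lsub hφ hK 0 ≤
        { carrier := {g | ∃ h : g ∈ Lsub hφ hK 0, ∃ s, ι s = β ⟨g, h⟩}
          one_mem' := ⟨one_mem _, 1, by rw [map_one]; exact (map_one β).symm⟩
          mul_mem' := by
            rintro a b ⟨ha, s, es⟩ ⟨hb, t, et⟩
            exact ⟨mul_mem ha hb, s * t, by rw [map_mul, es, et, ← map_mul]; rfl⟩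
          inv_mem' := by
            rintro a ⟨ha, s, es⟩
            refine ⟨inv_mem ha, s⁻¹, ?_⟩
            have h1 : ι s⁻¹ * ι s = 1 := by rw [← map_mul, inv_mul_cancel, map_one]
            have h2 : β ⟨a, ha⟩ * β ⟨a⁻¹, inv_mem ha⟩ = 1 := by
              rw [← map_mul]
              exact (congrArg β (Subtype.ext (mul_inv_cancel a))).trans (map_one β)
            rw [← es] at h2
            exact left_inv_eq_right_inv h1 h2 : Subgroup (GT hφ hK) } := rk_le hφ hK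
      (fun g hg => by
        obtain ⟨t, rfl⟩ := exists_x0 hφ hK hg
        exact ⟨x0_mem_Lsub hφ hK t, _, (hx t _).symm⟩)
      (fun g hg => by
        obtain ⟨t, rfl⟩ := opp0 hφ hK hg
        exact ⟨y0_mem_Lsub hφ hK t, _, (hy t _).symm⟩)
    obtain ⟨_, s, es⟩ := hle hg
    exact ⟨s, es⟩
  choose r hr using hex
  let ρ : Lsub hφ hK 0 →* Matrix.SpecialLinearGroup (Fin 2) K := MonoidHom.mk' r fun a b =>
    hι (by rw [map_mul, hr, hr, hr, map_mul])
  have hρx : ∀ t, ∀ h, ρ ⟨x0 hφ hK t, h⟩ = upMat t := fun t h =>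
    hι ((hr _).trans (hx t h))
  have hρy : ∀ t, ∀ h, ρ ⟨y0 hφ hK t, h⟩ =
      lowMat t := fun t h =>
    hι ((hr _).trans (hy t h))
  have hq8 : 8 ≤ Fintype.card K := by
    rw [hK]
    calc 8 = 2 ^ 3 := rfl
      _ ≤ _ := Nat.pow_le_pow_right two_pos (by omega)
  have hne9 : Fintype.card K ≠ 9 := by
    intro h
    have : 2 ∣ Fintype.card K := hK ▸ dvd_pow_self 2 (by omega)
    omega
  refine rankone (sbase hφ hK) (sW_cen hφ hK 0) (sW_mem hφ hK 0)
    (Linear.commutator_SL_eq_top_of_card (Or.inr (by rw [Nat.card_eq_fintype_card]; omega)))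
    (oddRigid_of_trivial (Cfsg.Agent.S2117.result (by omega) hne9)) ρ ?_ ?_ ?_ ?_ ?_ hl hl2 E
  · refine MonoidHom.range_eq_top.1 (eq_top_iff.2 ?_)
    rw [← Chevalley.SL2Hom.closure_upMat_lowMat, Subgroup.closure_le]
    rintro _ (⟨t, rfl⟩ | ⟨t, rfl⟩)
    · exact ⟨_, hρx t (x0_mem_Lsub hφ hK t)⟩
    · exact ⟨_, hρy t (y0_mem_Lsub hφ hK t)⟩
  · rintro ⟨a, haL⟩ ha h1
    obtain ⟨t, rfl⟩ := exists_x0 hφ hK ha
    rw [hρx] at h1
    have h2 : t = 0 := by
      simpa [H87.upMat_coe] using congrArg (fun g : Matrix.SpecialLinearGroup (Fin 2) K => g.1 0 1) h1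
    subst h2
    exact Subtype.ext (x0_zero hφ hK)
  · rintro ⟨a, haL⟩ ha h1
    obtain ⟨t, rfl⟩ := opp0 hφ hK ha
    rw [hρy] at h1
    have h2 : t = 0 := by
      simpa [H87.lowMat_coe] using congrArg (fun g : Matrix.SpecialLinearGroup (Fin 2) K => g.1 1 0) h1
    subst h2
    refine Subtype.ext (Subtype.ext ?_)
    show ((xe 14 (φ 0) * xe 23 0 : ↥(chevF4.group K)) : GL chevF4.Idx K) = 1
    rw [map_zero, xe_zero (by decide), xe_zero (by decide), one_mul]
    rfl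
  · refine ⟨⟨x0 hφ hK 1, x0_mem_Lsub hφ hK 1⟩, x0_mem hφ hK 1, ?_⟩
    rintro ⟨b, hbL⟩ hb he
    obtain ⟨t, rfl⟩ := opp0 hφ hK hb
    rw [hρx, hρy] at he
    have := congrArg (fun g : Matrix.SpecialLinearGroup (Fin 2) K => g.1 0 1) he
    simp [H87.upMat_coe, H87.lowMat_coe] at this
  · rintro ⟨a, haL⟩ ha hN
    obtain ⟨t, rfl⟩ := exists_x0 hφ hK ha
    obtain ⟨⟨b, hbL⟩, hb, he⟩ := hN ⟨y0 hφ hK 1, y0_mem_Lsub hφ hK 1⟩ (y0_opp hφ hK 1)
    obtain ⟨t', rfl⟩ := opp0 hφ hK hb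
    rw [hρx, hρy, hρy, mul_inv_eq_iff_eq_mul] at he
    rw [hρx]
    have h0 := congrArg (fun g : Matrix.SpecialLinearGroup (Fin 2) K => g.1 0 0) he
    simp [H87.upMat_coe, H87.lowMat_coe, Matrix.mul_apply, Fin.sum_univ_two] at h0
    subst h0
    exact H87.upMat_zero

end

end Cfsg.Agent.H40.Ree
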