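import Cfsg.Agent.H40.Ree.Pieces

/-!
`²F₄(q)` has no stem extension by an involution.
-/

set_option autoImplicit false
set_option maxRecDepth 100000

namespace Cfsg.Agent.H40.Ree

open Cfsg.Lie Cfsg.Agent.H37 Cfsg.Agent.H37.RootSys Cfsg.Agent.H37.Twist Cfsg.Agent.H56.ChevAut
open Cfsg.Agent.H56.TwAut Cfsg.Agent.H56.TwAut.F4 Cfsg.Agent.H37.Twist.F4
open Cfsg.Agent.Linear.Mult
open scoped commutatorElement

universe u

theorem glue_checks : ∀ a : Fin 8, (ray a).toFinset ∩ (tail (a.val + 1)).toFinset = ∅ ∧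
    (∀ r ∈ tail a.val, r < 48) ∧ a + 1 ≠ a := by decide +kernel

variable {K : Type u} [Field K] [Fintype K] [CharP K 2] {φ : K →+* K} {m : ℕ}
  (hφ : ∀ t, φ t = t ^ 2 ^ m) (hK : Fintype.card K = 2 ^ (2 * m + 1))

theorem Yl_nil {g : GT hφ hK} (hg : g ∈ Yl hφ hK []) : g = 1 := by
  rw [mem_Yl, List.toFinset_nil, Finset.coe_empty, XS_empty, Subgroup.mem_bot] at hg
  exact lift_injective _ hg

theorem mem_tail_step (a : Fin 8) (g : GT hφ hK) : g ∈ Yl hφ hK (tail a.val) ↔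
    ∃ x ∈ Yl hφ hK (ray a), ∃ n ∈ Yl hφ hK (tail (a.val + 1)), x * n = g := by
  constructor
  · exact fun hg => Yl_split hφ hK (tails_closed ⟨a.val, by omega⟩).1 (rays_closed a).1
      (tails_closed ⟨a.val + 1, by omega⟩).1 (rays_closed a).2.1
      (tails_closed ⟨a.val + 1, by omega⟩).2 (glue_checks a).1 (tail_step a).1 hg
  · rintro ⟨x, hx, n, hn, rfl⟩
    exact mul_mem (Yl_mono hφ hK (fun r hr => ((tail_step a).2.1 r hr).1) hx)
      (Yl_mono hφ hK (tail_step a).2.2 hn)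

variable {X : Type u} [Group X] [Finite X] (hm : 1 ≤ m) (E : LExt 2 X (GT hφ hK))

include hm in
theorem sec_tail : ∀ i a : ℕ, a + i = 8 →
    Nonempty (Sec E ((Md hφ hK).tw.H : Set (GT hφ hK)) (Yl hφ hK (tail a)))
  | 0, a, ha => by
    obtain rfl : a = 8 := by omega
    rw [tail_ends.2]
    refine ⟨⟨fun _ => 1, fun y hy => by rw [map_one, Yl_nil hφ hK hy],
      fun _ _ _ _ => (one_mul 1).symm, H_conj hφ hK (L := []) (by simp),
      fun _ _ _ _ x _ => by rw [mul_one, mul_inv_cancel]⟩⟩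
  | i + 1, a₀, ha₀ => by
    obtain ⟨SN⟩ := sec_tail i (a₀ + 1) (by omega)
    obtain ⟨a, rfl⟩ : ∃ a : Fin 8, a.val = a₀ := ⟨⟨a₀, by omega⟩, rfl⟩
    obtain ⟨hd, -, hne⟩ := glue_checks a
    obtain ⟨hc, -, hs⟩ := rays_closed a
    obtain ⟨SA⟩ := sec_of_killed hφ hK hm E hc hs ((sep_ok (a + 1) a).resolve_left hne)
      (killed_ray hφ hK hm E a)
    have hAN : ∀ x ∈ Yl hφ hK (ray a), ∀ n ∈ Yl hφ hK (tail (a.val + 1)),
        x * n * x⁻¹ ∈ Yl hφ hK (tail (a.val + 1)) := fun x hx n hn =>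
      Yl_normal hφ hK (ray_tail a) (tails_closed ⟨a.val + 1, by omega⟩).1 hd hx hn
    refine nonempty_glue SA SN hAN
      (Yl_inf hφ hK hc (tails_closed ⟨a.val + 1, by omega⟩).1 hd) ?_ (mem_tail_step hφ hK a)
    suffices ∀ k b : ℕ, b + k = 8 → a.val + 1 ≤ b → ∀ x ∈ Yl hφ hK (ray a),
        ∀ n ∈ Yl hφ hK (tail b), defect SA SN x n = 1 from
      this (7 - a.val) (a.val + 1) (by omega) le_rfl
    intro k
    induction k with
    | zero =>
      intro b hb _ x hx n hn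
      obtain rfl : b = 8 := by omega
      rw [tail_ends.2] at hn
      rw [Yl_nil hφ hK hn]
      exact defect_one_right SA SN hAN hx
    | succ k ih =>
      intro b₀ hb hab x hx n hn
      obtain ⟨b, rfl⟩ : ∃ b : Fin 8, b.val = b₀ := ⟨⟨b₀, by omega⟩, rfl⟩
      obtain ⟨p, hp, q, hq, rfl⟩ := (mem_tail_step hφ hK b n).1 hn
      have hsub : Yl hφ hK (tail b.val) ≤ Yl hφ hK (tail (a.val + 1)) :=
        Yl_mono hφ hK fun r hr => by
          simp only [tail, List.mem_filter, List.any_eq_true, Bool.and_eq_true,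
            decide_eq_true_eq] at hr ⊢
          obtain ⟨h1, j, h2, h3, h4⟩ := hr
          exact ⟨h1, j, h2, by omega, h4⟩
      have hray : ∀ y ∈ Yl hφ hK (ray b), y ∈ Yl hφ hK (tail (a.val + 1)) := fun y hy =>
        hsub (Yl_mono hφ hK (fun r hr => ((tail_step b).2.1 r hr).1) hy)
      have hq' : q ∈ Yl hφ hK (tail (a.val + 1)) :=
        hsub (Yl_mono hφ hK (tail_step b).2.2 hq)
      rw [defect_mul_right SA SN hAN hx (hray p hp) hq', ih (b.val + 1) (by omega) (by omega) x hx q hq,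
        mul_one]
      obtain ⟨y, hy, e⟩ := tor_moves hφ hK hm ((sep_ok a b).resolve_left (by omega))
        (rays_closed b).1 (rays_closed b).2.2 p hp
      exact defect_of_fix_left SA SN hAN (tor_mem hφ hK (top a))
        (fun z hz => tor_fix hφ hK (fix_ok.1 a) hz) hx (hray p hp) (hray y hy) e

theorem U_le : (Md hφ hK).tw.U ≤ Yl hφ hK (tail 0) := by
  intro g hg
  have h := (mem_U (Md hφ hK)).1 hg
  rw [mem_Yl, tail_ends.1]
  exact h

omit [Finite X] X in
include hm in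
theorem noStem_two : NoStem 2 (GT hφ hK) := by
  haveI := finiteGT hφ hK
  refine noStem_of_killed Nat.prime_two fun Γ _ _ E => ⟨(Md hφ hK).tw.U, ?_, ?_⟩
  · obtain ⟨S⟩ := sec_tail hφ hK hm E 8 0 rfl
    exact (Sec.killed S).mono (U_le hφ hK)
  · have h := index_U (Md hφ hK)
    rwa [ringChar.eq K 2] at h

end Cfsg.Agent.H40.Ree
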